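import Groth.Agent.AffineDiv.Principal
import Groth.Agent.Variety2.DimFiber

/-!
# A curve contracted to a point has negative definite intersection matrix
-/

universe u

open CategoryTheory CategoryTheory.Limits AlgebraicGeometry TopologicalSpace

namespace Groth.AffineDiv

open Groth.Inter Groth.SurfNum Groth.AffineCompl Groth.Variety2

variable {X Y : Scheme.{u}} (k : Type u) [Field k] [X.Over (Spec (CommRingCat.of k))]
  [IsProper (X ↘ Spec (CommRingCat.of k))] [AlgebraicGeometry.IsIntegral X] [AlgebraicGeometry.IsIntegral Y]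
  (hdim : topologicalKrullDim X = 2) (hreg : ∀ x : X, IsRegularLocalRing (X.presheaf.stalk x))
  (q : Y ⟶ Spec (CommRingCat.of k)) [LocallyOfFiniteType q] (hYd : topologicalKrullDim Y = 2)
  (π : X ⟶ Y) [IsProper π] {y : Y} (hy : IsClosed ({y} : Set Y))
  (hsurj : ∀ z, z ≠ y → z ∈ Set.range π)

include k hdim hreg q hYd hy hsurj

/-- A function at the contracted point gives a positive cycle with nonpositive degrees. -/
theorem negDef_of_contraction {ι : Type*} [Fintype ι] (ξ : ι → X) (hinj : Function.Injective ξ)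
    (hd : ∀ i, topologicalKrullDim (closure ({ξ i} : Set X)) = ((1 : ℕ) : WithBot ℕ∞))
    (hfib : π ⁻¹' ({y} : Set Y) = ⋃ i, closure ({ξ i} : Set X))
    (hconn : _root_.IsConnected (π ⁻¹' ({y} : Set Y))) (a : ι → ℤ) (ha : a ≠ 0) :
    ∑ i, ∑ j, a i * a j *
      pair k (ClSub.idealMod (IntMult.ptIdeal (ξ i))) (ClSub.idealMod (IntMult.ptIdeal (ξ j))) < 0 := by
  classical
  have hcurve : ∀ x : X, topologicalKrullDim (closure ({x} : Set X)) = ((1 : ℕ) : WithBot ℕ∞) →
      IsCurve (IntMult.ptIdeal x) := fun x hx =>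
    ⟨CohTwo.isIntegral_closure_subscheme rfl, by rw [support_ptIdeal]; exact hx.trans (by simp)⟩
  have hpt : ∀ {a b : X}, topologicalKrullDim (closure ({a} : Set X)) = ((1 : ℕ) : WithBot ℕ∞) →
      topologicalKrullDim (closure ({b} : Set X)) = ((1 : ℕ) : WithBot ℕ∞) →
      IntMult.ptIdeal a = IntMult.ptIdeal b → a = b := fun {a b} ha hb h => by
    have h' : a ∈ closure ({b} : Set X) := by
      rw [← support_ptIdeal b, ← h, support_ptIdeal]
      exact subset_closure rfl
    exact eq_of_dim_closure h' hb.le ha.ge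
  -- a curve through the point
  have hYh : (Order.height (genericPoint Y) : WithBot ℕ∞) = 2 :=
    (Dim.dim_eq_height_genericPoint (X := Y)).symm.trans hYd
  have hy0 : Order.height y = 0 := (Dim.height_eq_zero_iff y).2 hy
  have hylt : y < genericPoint Y := Dim.lt_iff.2 ⟨genericPoint_specializes y, fun e => by
    rw [← e, hy0] at hYh; simp at hYh⟩
  obtain ⟨c, hcy, -⟩ := Dim.exists_covBy_of_lt q hylt
  have hc1 : Order.height c = 1 := by rw [Dim.height_eq_of_covBy q hcy, hy0, zero_add]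
  have hcne : c ≠ y := fun e => by rw [e, hy0] at hc1; simp at hc1
  have hcη : c ≠ genericPoint Y := fun e => by rw [← e, hc1] at hYh; simp at hYh
  have hcy' : c ⤳ y := Scheme.le_iff_specializes.1 hcy.le
  -- the function
  obtain ⟨V, hV, hyV, -⟩ := exists_isAffineOpen_mem_and_subset (U := (⊤ : Y.Opens)) (Set.mem_univ y)
  haveI : Nonempty V := ⟨⟨y, hyV⟩⟩
  have hcV : c ∈ V := hcy'.mem_open V.2 hyV
  obtain ⟨g, hgc, hg0⟩ : ∃ g : Γ(Y, V), c ∉ Y.basicOpen g ∧ g ≠ 0 := by
    by_contra hcon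
    push Not at hcon
    apply hcη
    have hη : genericPoint Y ∈ V :=
      ((genericPoint_spec Y).mem_open_set_iff V.isOpen).mpr (by simpa using ‹Nonempty V›)
    have e : hV.primeIdealOf ⟨c, hcV⟩ = hV.primeIdealOf ⟨genericPoint Y, hη⟩ := by
      rw [hV.primeIdealOf_genericPoint, genericPoint_eq_bot_of_affine]
      refine PrimeSpectrum.ext (eq_bot_iff.2 fun b hb => ?_)
      refine hcon b fun hb' => ?_
      have h1 : hV.primeIdealOf ⟨c, hcV⟩ ∈ hV.fromSpec ⁻¹ᵁ Y.basicOpen b := by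
        change hV.fromSpec (hV.primeIdealOf ⟨c, hcV⟩) ∈ Y.basicOpen b
        rwa [hV.fromSpec_primeIdealOf]
      rw [hV.fromSpec_preimage_basicOpen] at h1
      exact h1 hb
    have := congrArg hV.fromSpec e
    rwa [hV.fromSpec_primeIdealOf, hV.fromSpec_primeIdealOf] at this
  have hgy : y ∉ Y.basicOpen g := fun h => hgc (hcy'.mem_open (Y.basicOpen g).2 h)
  obtain ⟨xη, hxη⟩ := hsurj (genericPoint Y) fun e => by rw [← e] at hylt; exact lt_irrefl _ hylt
  have hπη : π (genericPoint X) = genericPoint Y := by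
    have h1 : π (genericPoint X) ⤳ genericPoint Y :=
      hxη ▸ (genericPoint_specializes xη).map π.continuous
    exact (h1.antisymm (genericPoint_specializes _)).eq
  haveI : Nonempty (π ⁻¹ᵁ V : X.Opens) := ⟨⟨genericPoint X, show π (genericPoint X) ∈ V by
    rw [hπη]; exact ((genericPoint_spec Y).mem_open_set_iff V.isOpen).mpr (by simpa using ‹Nonempty V›)⟩⟩
  set f : X.functionField := X.germToFunctionField (π ⁻¹ᵁ V) (π.app V g)
  have hf0 : f ≠ 0 := fun h => by
    have h0 : π.app V g = 0 := Scheme.germToFunctionField_injective X _ (h.trans (map_zero _).symm)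
    have h1 : genericPoint X ∈ π ⁻¹ᵁ Y.basicOpen g := by
      change π (genericPoint X) ∈ Y.basicOpen g
      rw [hπη]
      refine ((genericPoint_spec Y).mem_open_set_iff (Y.basicOpen g).isOpen).mpr ?_
      rw [Set.univ_inter, Set.nonempty_iff_ne_empty]
      exact fun he => hg0 ((AlgebraicGeometry.basicOpen_eq_bot_iff g).1 (SetLike.coe_injective he))
    rw [Scheme.preimage_basicOpen, h0, Scheme.basicOpen_zero] at h1
    exact h1
  have hfreg : ∀ {x : X}, π x ∈ V → f ∈ Reg x := fun hx => germ_mem_reg _ hx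
  have hfinv : ∀ {x : X}, π x ∈ V → π x ∉ Y.basicOpen g → f⁻¹ ∉ Reg x := fun {x} hx hxg ⟨b, hb⟩ => by
    refine hxg (?_ : x ∈ π ⁻¹ᵁ Y.basicOpen g)
    rw [Scheme.preimage_basicOpen]
    refine (X.mem_basicOpen _ x hx).2 (IsUnit.of_mul_eq_one b ?_)
    apply IsFractionRing.injective (X.presheaf.stalk x) X.functionField
    rw [map_mul, map_one, Scheme.algebraMap_germ_eq_germToFunctionField X (U := π ⁻¹ᵁ V) hx, hb]
    exact mul_inv_cancel₀ hf0
  obtain ⟨S, e, hSd, henn, hepos, -, heout, hsum⟩ := exists_divisor k hdim hreg hf0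
  have hξy : ∀ i, π (ξ i) = y := fun i =>
    (hfib.ge (Set.mem_iUnion.2 ⟨i, subset_closure rfl⟩) : ξ i ∈ π ⁻¹' ({y} : Set Y))
  have heξ : ∀ i, 0 < e (ξ i) := fun i =>
    hepos _ (hd i) (hfreg (by rw [hξy i]; exact hyV)) (hfinv (by rw [hξy i]; exact hyV) (by rw [hξy i]; exact hgy))
  have hξS : ∀ i, ξ i ∈ S := fun i => by
    by_contra h
    exact (heξ i).ne' (heout _ (hd i) h)
  let G : ι → ι → ℤ := fun i j =>
    pair k (ClSub.idealMod (IntMult.ptIdeal (ξ i))) (ClSub.idealMod (IntMult.ptIdeal (ξ j)))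
  have hne : ∀ {i j}, i ≠ j → IntMult.ptIdeal (ξ i) ≠ IntMult.ptIdeal (ξ j) := fun {i j} h he =>
    h (hinj (hpt (hd i) (hd j) he))
  have hoff : ∀ i j, i ≠ j → 0 ≤ G i j := fun i j h =>
    pair_nonneg_of_ne k hdim hreg (hcurve _ (hd i)) (hcurve _ (hd j)) (hne h)
  have hcon : ∀ T : Finset ι, T.Nonempty → T ≠ Finset.univ → ∃ i ∈ T, ∃ j ∉ T, 0 < G i j := by
    intro T hT hTu
    let A : Set X := ⋃ i ∈ T, closure ({ξ i} : Set X)
    let B : Set X := ⋃ i ∈ Tᶜ, closure ({ξ i} : Set X)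
    have hA : IsClosed A := T.finite_toSet.isClosed_biUnion fun _ _ => isClosed_closure
    have hB : IsClosed B := Tᶜ.finite_toSet.isClosed_biUnion fun _ _ => isClosed_closure
    have hcov : π ⁻¹' ({y} : Set Y) ⊆ A ∪ B := fun z hz => by
      rw [hfib] at hz
      obtain ⟨i, hi⟩ := Set.mem_iUnion.1 hz
      by_cases h : i ∈ T
      · exact Or.inl (Set.mem_biUnion h hi)
      · exact Or.inr (Set.mem_biUnion (Finset.mem_compl.2 h) hi)
    obtain ⟨i, hi⟩ := hT
    obtain ⟨j, hj⟩ : ∃ j, j ∉ T := by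
      by_contra h
      push Not at h
      exact hTu (Finset.eq_univ_iff_forall.2 h)
    obtain ⟨z, -, hzA, hzB⟩ := isPreconnected_closed_iff.1 hconn.isPreconnected A B hA hB hcov
      ⟨ξ i, hξy i, Set.mem_biUnion hi (subset_closure rfl)⟩
      ⟨ξ j, hξy j, Set.mem_biUnion (Finset.mem_compl.2 hj) (subset_closure rfl)⟩
    simp only [A, B, Set.mem_iUnion] at hzA hzB
    obtain ⟨i', hi', hzi⟩ := hzA
    obtain ⟨j', hj', hzj⟩ := hzB
    refine ⟨i', hi', j', Finset.mem_compl.1 hj', pair_pos_of_meet k hdim hreg (hcurve _ (hd i')) (hcurve _ (hd j'))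
      (hne fun e => Finset.mem_compl.1 hj' (e ▸ hi')) ?_⟩
    rw [support_ptIdeal, support_ptIdeal]
    exact ⟨z, hzi, hzj⟩
  -- the degrees of the cycle
  let F := Finset.univ.image ξ
  have hFS : F ⊆ S := Finset.image_subset_iff.2 fun i _ => hξS i
  have hout : ∀ x ∈ S \ F, ∀ i, 0 ≤ e x * pair k (ClSub.idealMod (IntMult.ptIdeal x))
      (ClSub.idealMod (IntMult.ptIdeal (ξ i))) := fun x hx i => by
    obtain ⟨hxS, hxF⟩ := Finset.mem_sdiff.1 hx
    by_cases hm : ((closure ({x} : Set X)) ∩ closure {ξ i}).Nonempty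
    · obtain ⟨z, hzx, hzi⟩ := hm
      have hzy : π z = y := (hfib.ge (Set.mem_iUnion.2 ⟨i, hzi⟩) : z ∈ π ⁻¹' ({y} : Set Y))
      have hxV : π x ∈ V := ((specializes_iff_mem_closure.2 hzx).map π.continuous).mem_open V.2 (hzy ▸ hyV)
      refine mul_nonneg (henn x (hSd x hxS) (hfreg hxV)) (pair_nonneg_of_ne k hdim hreg (hcurve _ (hSd x hxS))
        (hcurve _ (hd i)) fun he => hxF (Finset.mem_image.2 ⟨i, Finset.mem_univ _, (hpt (hSd x hxS) (hd i) he).symm⟩))
    · rw [pair_eq_zero_of_disjoint k hdim hreg (hcurve _ (hSd x hxS)) (hcurve _ (hd i)) (by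
        rw [support_ptIdeal, support_ptIdeal, Set.disjoint_iff_inter_eq_empty]
        exact Set.not_nonempty_iff_eq_empty.1 hm), mul_zero]
  have hsplit : ∀ j, ∑ i, e (ξ i) * G i j =
      - ∑ x ∈ S \ F, e x * pair k (ClSub.idealMod (IntMult.ptIdeal x)) (ClSub.idealMod (IntMult.ptIdeal (ξ j))) := fun j => by
    have h := hsum _ ((hcurve _ (hd j)).isInvertible k hdim hreg)
    rw [← Finset.sum_sdiff hFS] at h
    simp only [F, Finset.sum_image (fun a _ b _ h => hinj h)] at h
    rw [eq_neg_iff_add_eq_zero, add_comm, ← h]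
    congr 1
    · refine Finset.sum_congr rfl fun x hx => ?_
      rw [pair_idealMod k ((hcurve _ (hSd x (Finset.mem_sdiff.1 hx).1)).isEffCartier k hdim hreg)
        ((hcurve _ (hd j)).isInvertible k hdim hreg)]
    · refine Finset.sum_congr rfl fun i _ => ?_
      rw [show G i j = _ from pair_idealMod k ((hcurve _ (hd i)).isEffCartier k hdim hreg)
        ((hcurve _ (hd j)).isInvertible k hdim hreg)]
  -- the lift of the curve
  obtain ⟨w, hw⟩ := hsurj c hcne
  have hwd : topologicalKrullDim (closure ({w} : Set X)) = ((1 : ℕ) : WithBot ℕ∞) := by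
    have hlt : w < genericPoint X := Dim.lt_iff.2 ⟨genericPoint_specializes w, fun e => hcη (by
      rw [← hw, e, hπη])⟩
    have h0 : Order.height w ≠ 0 := fun h => by
      have hcl := π.isClosedMap _ ((Dim.height_eq_zero_iff w).1 h)
      rw [Set.image_singleton, hw] at hcl
      exact hcne ((hcl.closure_eq.le hcy'.mem_closure) : y = c).symm
    have h2 : (Order.height (genericPoint X) : WithBot ℕ∞) = 2 :=
      (Dim.dim_eq_height_genericPoint (X := X)).symm.trans hdim
    have h2' : Order.height (genericPoint X) = (2 : ℕ∞) := WithBot.coe_inj.1 h2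
    have h3 := Order.height_add_one_le hlt
    rw [h2'] at h3
    obtain ⟨n, hn⟩ := ENat.ne_top_iff_exists.1 (Dim.height_ne_top (X ↘ Spec (CommRingCat.of k)) w)
    rw [← hn] at h0 h3
    have : n + 1 ≤ 2 := by exact_mod_cast h3
    have hn0 : n ≠ 0 := fun h => h0 (by rw [h]; rfl)
    rw [Dim.dim_closure_singleton, ← hn, show n = 1 by omega]
    rfl
  obtain ⟨z, hzw, hzy⟩ : ∃ z ∈ closure ({w} : Set X), π z = y := by
    have hcl := π.isClosedMap _ (isClosed_closure (s := ({w} : Set X)))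
    have hc : c ∈ π '' closure ({w} : Set X) := hw ▸ Set.mem_image_of_mem π (subset_closure rfl)
    exact hcl.closure_subset_iff.2 (Set.singleton_subset_iff.2 hc) hcy'.mem_closure
  have hwV : π w ∈ V := by rw [hw]; exact hcV
  have hew : 0 < e w := hepos w hwd (hfreg hwV) (hfinv hwV (by rw [hw]; exact hgc))
  have hwF : w ∉ F := fun h => by
    obtain ⟨i, -, hi⟩ := Finset.mem_image.1 h
    exact hcne (by rw [← hw, ← hi, hξy i])
  have hwS : w ∈ S := by
    by_contra h
    exact hew.ne' (heout _ hwd h)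
  obtain ⟨j, hzj⟩ := Set.mem_iUnion.1 (hfib.le (show z ∈ π ⁻¹' ({y} : Set Y) from hzy))
  refine negDef_of_connected G (fun i j => pair_comm k _ _) hoff hcon (fun i => e (ξ i)) heξ (fun i => ?_)
    ⟨j, ?_⟩ a ha
  · rw [hsplit, neg_nonpos]
    exact Finset.sum_nonneg fun x hx => hout x hx i
  · rw [hsplit, neg_lt_zero]
    refine Finset.sum_pos' (fun x hx => hout x hx j) ⟨w, Finset.mem_sdiff.2 ⟨hwS, hwF⟩, mul_pos hew ?_⟩
    refine pair_pos_of_meet k hdim hreg (hcurve _ hwd) (hcurve _ (hd j)) (fun he => hwF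
      (Finset.mem_image.2 ⟨j, Finset.mem_univ _, (hpt hwd (hd j) he).symm⟩)) ?_
    rw [support_ptIdeal, support_ptIdeal]
    exact ⟨z, hzw, hzj⟩

end Groth.AffineDiv
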