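import Groth.Agent.SurfNum.Basic
import Groth.Agent.Inter.SectionDivisor
import Groth.Agent.Variety2.ProjBasics
import Groth.Agent.VarietyBC.GlobalField
import Groth.Agent.ModelsGraphs.GlobalFunctions
import Groth.Agent.Ega2Proj.RelAmpleCoprod

/-!
# Global functions on a divisor and the first cohomology of its ideal
-/

universe u

open CategoryTheory CategoryTheory.Limits AlgebraicGeometry TopologicalSpace

namespace Groth.AffineDiv

open Groth.Inter

variable {X : Scheme.{u}} (k : Type u) [Field k] [X.Over (Spec (CommRingCat.of k))]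

attribute [local instance] EulerDeg.secModule

theorem isProper_of_proj (hproj : ∃ (n : ℕ) (ι : X ⟶ CohB1.ProjSpace n k), IsClosedImmersion ι ∧
    ι ≫ CohB1.ProjSpace.toSpec n k = (X ↘ (Spec (CommRingCat.of k)))) :
    IsProper (X ↘ (Spec (CommRingCat.of k))) := by
  obtain ⟨n, ι, hι, e⟩ := hproj
  haveI := Groth.Variety2.isProper_projSpace_toSpec n k
  rw [← e]
  infer_instance

variable [IsProper (X ↘ Spec (CommRingCat.of k))] [AlgebraicGeometry.IsIntegral X] [IsAlgClosed k]

theorem finrank_h0_quot_eq (D : X.IdealSheafData) :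
    letI := ((D.subschemeι ≫ (X ↘ Spec (CommRingCat.of k))).appTop.hom.comp
      (Scheme.ΓSpecIso (CommRingCat.of k)).inv.hom : k →+* Γ(D.subscheme, ⊤)).toAlgebra
    Module.finrank k (Coh.HH X (ClSub.quotMod D) 0) = Module.finrank k Γ(D.subscheme, ⊤) := by
  letI : D.subscheme.Over (Spec (CommRingCat.of k)) := ⟨D.subschemeι ≫ (X ↘ Spec (CommRingCat.of k))⟩
  obtain ⟨f⟩ := CohC3.nonempty_linearEquiv_push_closed D.subschemeι (X ↘ Spec (CommRingCat.of k)) 0
    (Coh.structureModule D.subscheme)
  exact f.finrank_eq.trans (VarietyBC.GlobalField.finrank_HH_zero k D.subscheme)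

/-- Without first cohomology of the ideal, a divisor has at most the constants as global functions. -/
theorem finrank_h0_quot_le_one (D : X.IdealSheafData)
    (hvan : Subsingleton (Coh.HH X (ClSub.idealMod D) 1)) :
    Module.finrank k (Coh.HH X (ClSub.quotMod D) 0) ≤ 1 := by
  have hS := PicAux.shortExact_idealMod D
  haveI := Groth.Inter.isNoetherian k (X := X)
  have := (finCoh k (X := X) (QCohMod.isCoh_unit (X := X))).finite 0
  refine le_trans (LinearMap.finrank_le_finrank_of_surjective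
    (f := EulerDeg.hMap k (ClSub.toSubscheme D) 0) fun y => ?_) (finrank_h0_structure_le k)
  exact (EulerDeg.exact_right k hS 0 y).1 (hvan.elim _ _)

/-- A divisor without global functions but the constants is connected. -/
theorem connectedSpace_of_finrank_le_one (D : X.IdealSheafData) (hne : Nonempty D.subscheme)
    (h : Module.finrank k (Coh.HH X (ClSub.quotMod D) 0) ≤ 1) : ConnectedSpace D.subscheme := by
  letI := ((D.subschemeι ≫ (X ↘ Spec (CommRingCat.of k))).appTop.hom.comp
      (Scheme.ΓSpecIso (CommRingCat.of k)).inv.hom : k →+* Γ(D.subscheme, ⊤)).toAlgebra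
  have hN : IsNoetherian X := Groth.Inter.isNoetherian k
  haveI : Nonempty (⊤ : D.subscheme.Opens) := ⟨⟨hne.some, trivial⟩⟩
  have hpos : 0 < Module.finrank k (Coh.HH X (ClSub.quotMod D) 0) := by
    have : Nontrivial Γ(ClSub.quotMod D, (⊤ : X.Opens)) := inferInstanceAs (Nontrivial Γ(D.subscheme, ⊤))
    have : Nontrivial (Coh.HH X (ClSub.quotMod D) 0) :=
      (EulerDeg.h0Equiv k (ClSub.quotMod D)).toEquiv.nontrivial
    have : Module.Finite k (Coh.HH X (ClSub.quotMod D) 0) :=
      (finCoh k (Groth.Inter.support_quotMod k D).1).finite 0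
    exact Module.finrank_pos
  rw [finrank_h0_quot_eq] at h hpos
  have h1 : Module.finrank k Γ(D.subscheme, ⊤) = 1 := le_antisymm h hpos
  refine connectedSpace_iff_clopen.2 ⟨hne, fun s hs => ?_⟩
  obtain ⟨g, hg⟩ := Groth.Ega2Proj.exists_idempotent ⟨s, hs.isOpen⟩
    (⟨sᶜ, hs.compl.isOpen⟩ : D.subscheme.Opens) isCompl_compl
  obtain ⟨c, rfl⟩ := exists_smul_eq_of_finrank_eq_one h1 (one_ne_zero : (1 : Γ(D.subscheme, ⊤)) ≠ 0) g
  rw [Algebra.smul_def, mul_one] at hg
  rcases eq_or_ne c 0 with rfl | hc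
  · left
    rw [map_zero, Scheme.basicOpen_zero] at hg
    exact (congrArg SetLike.coe hg).symm
  · right
    rw [Scheme.basicOpen_of_isUnit _ ((IsUnit.mk0 c hc).map _)] at hg
    exact (congrArg SetLike.coe hg).symm

/-- On a reduced connected divisor the restriction of global functions is onto. -/
theorem surjective_hMap_of_isReduced (D : X.IdealSheafData) [ConnectedSpace D.subscheme]
    [IsReduced D.subscheme] :
    Function.Surjective (EulerDeg.hMap k (ClSub.toSubscheme D) 0) := by
  letI := ((D.subschemeι ≫ (X ↘ Spec (CommRingCat.of k))).appTop.hom.comp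
      (Scheme.ΓSpecIso (CommRingCat.of k)).inv.hom : k →+* Γ(D.subscheme, ⊤)).toAlgebra
  have hN : IsNoetherian X := Groth.Inter.isNoetherian k
  haveI : Nonempty (⊤ : D.subscheme.Opens) := ⟨⟨Classical.arbitrary _, trivial⟩⟩
  have hsurj : ∀ b : Γ(D.subscheme, ⊤), ∃ c : k, algebraMap k _ c = b := fun b => by
    have hint : RingHom.IsIntegral (algebraMap k Γ(D.subscheme, ⊤)) :=
      RingHom.IsIntegral.trans (Scheme.ΓSpecIso (CommRingCat.of k)).inv.hom _
        (RingHom.isIntegral_of_surjective _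
          (Scheme.ΓSpecIso (CommRingCat.of k)).commRingCatIsoToRingEquiv.symm.surjective)
        (isIntegral_appTop_of_universallyClosed (D.subschemeι ≫ (X ↘ Spec (CommRingCat.of k))))
    obtain ⟨q, hq, hb⟩ := hint b
    obtain ⟨r, -, hr⟩ := Groth.ModelsGraphs.GlobalFun.exists_eq_of_aeval_eq_zero
      (fun e he => Groth.VarietyBC.GlobalField.eq_zero_or_one_of_idem e he) b q hq hb
    exact ⟨r, hr.symm⟩
  have h1 : Module.finrank k (Coh.HH X (ClSub.quotMod D) 0) = 1 := by
    rw [finrank_h0_quot_eq]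
    refine finrank_eq_one 1 one_ne_zero fun b => ?_
    obtain ⟨c, hc⟩ := hsurj b
    exact ⟨c, by rw [Algebra.smul_def, mul_one, hc]⟩
  let φ := ClSub.toSubscheme D
  let x₀ : Coh.HH X (Coh.structureModule X) 0 :=
    (EulerDeg.h0Equiv k (Coh.structureModule X)).symm (show Γ(Coh.structureModule X, ⊤) from (1 : Γ(X, ⊤)))
  have hx : EulerDeg.hMap k φ 0 x₀ ≠ 0 := fun h => by
    have h2 := Sheaf.H.equiv₀_naturality (hT := (isTerminalTop : IsTerminal (⊤ : Opens X)))
      (f := EulerDeg.abMap φ) x₀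
    rw [← EulerDeg.hMap_apply k φ 0 x₀, h] at h2
    change φ.app ⊤ ((EulerDeg.h0Equiv k _) x₀) = (EulerDeg.h0Equiv k (ClSub.quotMod D)) 0 at h2
    rw [LinearEquiv.apply_symm_apply, map_zero] at h2
    exact (one_ne_zero : (1 : Γ(D.subscheme, ⊤)) ≠ 0) ((map_one (D.subschemeι.app ⊤).hom).symm.trans h2)
  intro y
  obtain ⟨c, hc⟩ := exists_smul_eq_of_finrank_eq_one h1 hx y
  exact ⟨c • x₀, by rw [map_smul, hc]⟩

end Groth.AffineDiv
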