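import Groth.Agent.AffineDiv.Principal
import Groth.Agent.Variety2.DimFiber

/-!
# The class of a fibre of a map from a regular proper surface to a curve
-/

universe u

open CategoryTheory CategoryTheory.Limits AlgebraicGeometry TopologicalSpace

namespace Groth.AffineDiv

open Groth.Inter Groth.SurfNum Groth.AffineCompl Groth.Variety2

/-- A point other than the generic one of an integral scheme is in the zero locus of a nonzero function. -/
theorem exists_ne_zero_notMem_basicOpen {Y : Scheme.{u}} [AlgebraicGeometry.IsIntegral Y] {V : Y.Opens}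
    (hV : IsAffineOpen V) {c : Y} (hc : c ∈ V) (hcη : c ≠ genericPoint Y) :
    ∃ g : Γ(Y, V), c ∉ Y.basicOpen g ∧ g ≠ 0 := by
  haveI : Nonempty V := ⟨⟨c, hc⟩⟩
  by_contra hcon
  push Not at hcon
  apply hcη
  have hη : genericPoint Y ∈ V := (genericPoint_specializes c).mem_open V.2 hc
  have e : hV.primeIdealOf ⟨c, hc⟩ = hV.primeIdealOf ⟨genericPoint Y, hη⟩ := by
    rw [hV.primeIdealOf_genericPoint, genericPoint_eq_bot_of_affine]
    refine PrimeSpectrum.ext (eq_bot_iff.2 fun b hb => ?_)
    refine hcon b fun hb' => ?_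
    have h1 : hV.primeIdealOf ⟨c, hc⟩ ∈ hV.fromSpec ⁻¹ᵁ Y.basicOpen b := by
      change hV.fromSpec (hV.primeIdealOf ⟨c, hc⟩) ∈ Y.basicOpen b
      rwa [hV.fromSpec_primeIdealOf]
    rw [hV.fromSpec_preimage_basicOpen] at h1
    exact h1 hb
  have := congrArg hV.fromSpec e
  rwa [hV.fromSpec_primeIdealOf, hV.fromSpec_primeIdealOf] at this

variable {X C : Scheme.{u}} (k : Type u) [Field k] [X.Over (Spec (CommRingCat.of k))]
  [IsProper (X ↘ Spec (CommRingCat.of k))] [AlgebraicGeometry.IsIntegral X]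
  [AlgebraicGeometry.IsIntegral C]
  (hdim : topologicalKrullDim X = 2) (hreg : ∀ x : X, IsRegularLocalRing (X.presheaf.stalk x))
  (q : C ⟶ Spec (CommRingCat.of k)) [LocallyOfFiniteType q] (hdimC : topologicalKrullDim C = 1)

include q hdimC in
/-- The points of a curve are the generic point and the closed points. -/
theorem eq_genericPoint_or_isClosed (t : C) : t = genericPoint C ∨ IsClosed ({t} : Set C) := by
  refine or_iff_not_imp_left.2 fun h => (Dim.height_eq_zero_iff t).1 ?_
  have hlt : t < genericPoint C := Dim.lt_iff.2 ⟨genericPoint_specializes t, h⟩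
  have h1 : (Order.height (genericPoint C) : WithBot ℕ∞) = 1 :=
    (Dim.dim_eq_height_genericPoint (X := C)).symm.trans hdimC
  have h2 := Order.height_add_one_le hlt
  rw [WithBot.coe_eq_one.1 h1] at h2
  obtain ⟨n, hn⟩ := ENat.ne_top_iff_exists.1 (Dim.height_ne_top q t)
  rw [← hn] at h2 ⊢
  have : n + 1 ≤ 1 := by exact_mod_cast h2
  rw [show n = 0 by omega]
  rfl

variable (f : X ⟶ C) [Surjective f] (hf : f ≫ q = X ↘ Spec (CommRingCat.of k))

include k hdim hreg q hdimC hf

/-- The fibre over a closed point gives a class of square zero, positive on the horizontal curves and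
orthogonal to whatever is orthogonal to the vertical curves. -/
theorem exists_fibre_class [IsSeparated q] :
    ∃ Φ : X.Modules, PicF.IsInvertible Φ ∧ pair k Φ Φ = 0 ∧
      (∀ ξ : X, topologicalKrullDim (closure ({ξ} : Set X)) = ((1 : ℕ) : WithBot ℕ∞) →
        f ξ = genericPoint C → 0 < pair k (ClSub.idealMod (IntMult.ptIdeal ξ)) Φ) ∧
      ∀ L : X.Modules, PicF.IsInvertible L →
        (∀ y : X, topologicalKrullDim (closure ({y} : Set X)) = ((1 : ℕ) : WithBot ℕ∞) →
          IsClosed ({f y} : Set C) → pair k (ClSub.idealMod (IntMult.ptIdeal y)) L = 0) →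
        pair k L Φ = 0 := by
  classical
  haveI : IsProper (f ≫ q) := hf ▸ inferInstance
  haveI : IsProper f := IsProper.of_comp f q
  let p := X ↘ Spec (CommRingCat.of k)
  have hCη : Order.height (genericPoint C) = 1 :=
    WithBot.coe_eq_one.1 ((Dim.dim_eq_height_genericPoint (X := C)).symm.trans hdimC)
  have hXη : Order.height (genericPoint X) = 2 :=
    WithBot.coe_inj.1 ((Dim.dim_eq_height_genericPoint (X := X)).symm.trans hdim)
  have hfη : f (genericPoint X) = genericPoint C := by
    obtain ⟨x, hx⟩ := f.surjective (genericPoint C)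
    exact ((hx ▸ (genericPoint_specializes x).map f.continuous).antisymm (genericPoint_specializes _)).eq
  obtain ⟨c, -, hc⟩ := Dim.exists_isClosed_singleton_mem q (isClosed_univ (X := C)).isLocallyClosed
    ⟨genericPoint C, trivial⟩
  have hc0 : Order.height c = 0 := (Dim.height_eq_zero_iff c).2 hc
  have hcη : c ≠ genericPoint C := fun e => by rw [← e, hc0] at hCη; exact zero_ne_one hCη
  obtain ⟨V, hV, hcV, -⟩ := exists_isAffineOpen_mem_and_subset (U := (⊤ : C.Opens)) (Set.mem_univ c)
  obtain ⟨g, hgc, hg0⟩ := exists_ne_zero_notMem_basicOpen hV hcV hcη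
  haveI : Nonempty V := ⟨⟨c, hcV⟩⟩
  have hηg : genericPoint C ∈ C.basicOpen g := by
    refine ((genericPoint_spec C).mem_open_set_iff (C.basicOpen g).isOpen).mpr ?_
    rw [Set.univ_inter, Set.nonempty_iff_ne_empty]
    exact fun he => hg0 ((AlgebraicGeometry.basicOpen_eq_bot_iff g).1 (SetLike.coe_injective he))
  have hηV : genericPoint C ∈ V := C.basicOpen_le g hηg
  haveI : Nonempty (f ⁻¹ᵁ V : X.Opens) := ⟨⟨genericPoint X, show f (genericPoint X) ∈ V by rwa [hfη]⟩⟩
  set h : X.functionField := X.germToFunctionField (f ⁻¹ᵁ V) (f.app V g)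
  have hh0 : h ≠ 0 := fun e => by
    have h0 : f.app V g = 0 := Scheme.germToFunctionField_injective X _ (e.trans (map_zero _).symm)
    have h1 : genericPoint X ∈ f ⁻¹ᵁ C.basicOpen g := by
      change f (genericPoint X) ∈ C.basicOpen g
      rwa [hfη]
    rw [Scheme.preimage_basicOpen, h0, Scheme.basicOpen_zero] at h1
    exact h1
  have hhreg : ∀ {x : X}, f x ∈ V → h ∈ Reg x := fun hx => germ_mem_reg _ hx
  have hhinv : ∀ {x : X}, f x ∈ V → (h⁻¹ ∈ Reg x ↔ f x ∈ C.basicOpen g) := fun {x} hx => by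
    have hiff : f x ∈ C.basicOpen g ↔ IsUnit (X.presheaf.germ (f ⁻¹ᵁ V) x hx (f.app V g)) := by
      rw [← X.mem_basicOpen, ← Scheme.preimage_basicOpen]
      rfl
    rw [hiff]
    constructor
    · rintro ⟨b, hb⟩
      refine IsUnit.of_mul_eq_one b ?_
      apply IsFractionRing.injective (X.presheaf.stalk x) X.functionField
      rw [map_mul, map_one, Scheme.algebraMap_germ_eq_germToFunctionField X (U := f ⁻¹ᵁ V) hx, hb]
      exact mul_inv_cancel₀ hh0
    · intro hu
      obtain ⟨b, hb⟩ := hu.exists_right_inv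
      refine ⟨b, eq_inv_of_mul_eq_one_right ?_⟩
      rw [← map_one (algebraMap (X.presheaf.stalk x) X.functionField), ← hb, map_mul,
        Scheme.algebraMap_germ_eq_germToFunctionField X (U := f ⁻¹ᵁ V) hx]
  obtain ⟨S, e, hSd, henn, hepos, hezero, heout, hsum⟩ := exists_divisor k hdim hreg hh0
  let F := S.filter fun y => f y = c
  have hFd : ∀ y ∈ F, topologicalKrullDim (closure ({y} : Set X)) = ((1 : ℕ) : WithBot ℕ∞) :=
    fun y hy => hSd y (Finset.mem_filter.1 hy).1
  have hFpos : ∀ y, topologicalKrullDim (closure ({y} : Set X)) = ((1 : ℕ) : WithBot ℕ∞) → f y = c →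
      0 < e y := fun y hd hy =>
    hepos y hd (hhreg (by rw [hy]; exact hcV))
      (fun hm => hgc (hy ▸ (hhinv (by rw [hy]; exact hcV)).1 hm))
  have hFmem : ∀ y, topologicalKrullDim (closure ({y} : Set X)) = ((1 : ℕ) : WithBot ℕ∞) → f y = c → y ∈ F :=
    fun y hd hy => Finset.mem_filter.2 ⟨by_contra fun hn => (hFpos y hd hy).ne' (heout y hd hn), hy⟩
  have hcurve : ∀ x : X, topologicalKrullDim (closure ({x} : Set X)) = ((1 : ℕ) : WithBot ℕ∞) →
      IsCurve (IntMult.ptIdeal x) := fun x hx =>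
    ⟨CohTwo.isIntegral_closure_subscheme rfl, by rw [support_ptIdeal]; exact hx.trans (by simp)⟩
  have hpt : ∀ {a b : X}, topologicalKrullDim (closure ({a} : Set X)) = ((1 : ℕ) : WithBot ℕ∞) →
      topologicalKrullDim (closure ({b} : Set X)) = ((1 : ℕ) : WithBot ℕ∞) →
      IntMult.ptIdeal a = IntMult.ptIdeal b → a = b := fun {a b} ha hb h => by
    have h' : a ∈ closure ({b} : Set X) := by
      rw [← support_ptIdeal b, ← h, support_ptIdeal]
      exact subset_closure rfl
    exact eq_of_dim_closure h' hb.le ha.ge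
  have hinv : ∀ x : X, topologicalKrullDim (closure ({x} : Set X)) = ((1 : ℕ) : WithBot ℕ∞) →
      PicF.IsInvertible (ClSub.idealMod (IntMult.ptIdeal x)) := fun x hx =>
    (hcurve x hx).isInvertible k hdim hreg
  have hfc : ∀ y ∈ F, (e y).toNat = e y := fun y hy =>
    Int.toNat_of_nonneg (hFpos y (hFd y hy) (Finset.mem_filter.1 hy).2).le
  obtain ⟨hI, -, hIp⟩ := pair_idealMod_prod k hdim.le IntMult.ptIdeal (fun y => (e y).toNat) F
    (fun y hy => (hcurve y (hFd y hy)).isEffCartier k hdim hreg)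
    (fun y hy => by
      have := hFpos y (hFd y hy) (Finset.mem_filter.1 hy).2
      omega)
  have hΦ := PicAux.isInvertible_idealMod hI
  set Φ := ClSub.idealMod (∏ y ∈ F, IntMult.ptIdeal y ^ (e y).toNat)
  have hΦp : ∀ L : X.Modules, PicF.IsInvertible L →
      pair k Φ L = ∑ y ∈ F, e y * pair k (ClSub.idealMod (IntMult.ptIdeal y)) L := fun L hL => by
    rw [hIp L hL]
    exact Finset.sum_congr rfl fun y hy => by rw [hfc y hy]
  have hΦF : ∀ z ∈ F, pair k Φ (ClSub.idealMod (IntMult.ptIdeal z)) = 0 := fun z hz => by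
    have hzd := hFd z hz
    have := hsum _ (hinv z hzd)
    rw [← this, hΦp _ (hinv z hzd)]
    refine (Finset.sum_congr rfl fun y hy => by
      rw [pair_idealMod k ((hcurve y (hFd y hy)).isEffCartier k hdim hreg) (hinv z hzd)]).trans
      (Finset.sum_subset (Finset.filter_subset _ S) fun y hy hyF => ?_)
    rw [← pair_idealMod k ((hcurve y (hSd y hy)).isEffCartier k hdim hreg) (hinv z hzd)]
    by_cases hm : ((closure ({y} : Set X)) ∩ closure {z}).Nonempty
    · obtain ⟨w, hwy, hwz⟩ := hm
      have hwc : f w = c := by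
        have h1 := (specializes_iff_mem_closure.2 hwz).map f.continuous
        rw [(Finset.mem_filter.1 hz).2, specializes_iff_mem_closure, hc.closure_eq] at h1
        exact h1
      have hyc : f y ⤳ c := hwc ▸ (specializes_iff_mem_closure.2 hwy).map f.continuous
      rcases eq_genericPoint_or_isClosed k q hdimC (f y) with hy' | hy'
      · rw [hezero y (hSd y hy) (hhreg (hy'.symm ▸ hηV))
          ((hhinv (hy'.symm ▸ hηV)).2 (hy'.symm ▸ hηg)), zero_mul]
      · refine absurd (Finset.mem_filter.2 ⟨hy, ?_⟩) hyF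
        rw [specializes_iff_mem_closure, hy'.closure_eq] at hyc
        exact hyc.symm
    · rw [pair_eq_zero_of_disjoint k hdim hreg (hcurve _ (hSd y hy)) (hcurve _ hzd) (by
        rw [support_ptIdeal, support_ptIdeal, Set.disjoint_iff_inter_eq_empty]
        exact Set.not_nonempty_iff_eq_empty.1 hm), mul_zero]
  refine ⟨Φ, hΦ, ?_, fun ξ hξ hξη => ?_, fun L hL hvert => ?_⟩
  · rw [hΦp _ hΦ]
    exact Finset.sum_eq_zero fun y hy => by rw [pair_comm k, hΦF y hy, mul_zero]
  · rw [pair_comm k, hΦp _ (hinv ξ hξ)]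
    have hne : ∀ y ∈ F, IntMult.ptIdeal y ≠ IntMult.ptIdeal ξ := fun y hy he => hcη (by
      rw [← hξη, ← hpt (hFd y hy) hξ he, (Finset.mem_filter.1 hy).2])
    obtain ⟨z, hzξ, hzc⟩ : ∃ z ∈ closure ({ξ} : Set X), f z = c := by
      have hcl := f.isClosedMap _ (isClosed_closure (s := ({ξ} : Set X)))
      have hη : genericPoint C ∈ f '' closure ({ξ} : Set X) :=
        hξη ▸ Set.mem_image_of_mem f (subset_closure rfl)
      exact hcl.closure_subset_iff.2 (Set.singleton_subset_iff.2 hη)
        (genericPoint_specializes c).mem_closure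
    obtain ⟨w, -, hwz, hwf, hwh⟩ := Dim.exists_fiber_height_le p q f hf (genericPoint_specializes z)
    rw [hXη, hfη, hCη, hzc, hc0, add_zero] at hwh
    have hwη : w ≠ genericPoint X := fun e => hcη (by rw [← hfη, ← e, hwf, hzc])
    have hlt := Order.height_add_one_le (Dim.lt_iff.2 ⟨genericPoint_specializes w, hwη⟩)
    rw [hXη] at hlt
    obtain ⟨n, hn⟩ := ENat.ne_top_iff_exists.1 (Dim.height_ne_top p w)
    rw [← hn] at hwh hlt
    have hwd : topologicalKrullDim (closure ({w} : Set X)) = ((1 : ℕ) : WithBot ℕ∞) := by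
      have h1 : 2 ≤ n + 1 := by exact_mod_cast hwh
      have h2 : n + 1 ≤ 2 := by exact_mod_cast hlt
      rw [Dim.dim_closure_singleton, ← hn, show n = 1 by omega]
      rfl
    have hwF := hFmem w hwd (hwf.trans hzc)
    refine Finset.sum_pos' (fun y hy => mul_nonneg (hFpos y (hFd y hy) (Finset.mem_filter.1 hy).2).le
      (pair_nonneg_of_ne k hdim hreg (hcurve y (hFd y hy)) (hcurve ξ hξ) (hne y hy))) ⟨w, hwF, ?_⟩
    refine mul_pos (hFpos w hwd (hwf.trans hzc))
      (pair_pos_of_meet k hdim hreg (hcurve w hwd) (hcurve ξ hξ) (hne w hwF) ?_)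
    rw [support_ptIdeal, support_ptIdeal]
    exact ⟨z, hwz.mem_closure, hzξ⟩
  · rw [pair_comm k, hΦp L hL]
    exact Finset.sum_eq_zero fun y hy => by
      rw [hvert y (hFd y hy) (by rw [(Finset.mem_filter.1 hy).2]; exact hc), mul_zero]

end Groth.AffineDiv
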