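import Groth.Agent.AffineDiv.RationalCrit

/-!
# Fundamental cycles of negative configurations of curves
-/

universe u

open CategoryTheory CategoryTheory.Limits AlgebraicGeometry TopologicalSpace

namespace Groth.AffineDiv

open Groth.Inter Groth.SurfNum Groth.PicAux

variable {X : Scheme.{u}} (k : Type u) [Field k] [X.Over (Spec (CommRingCat.of k))]
  [IsProper (X ↘ Spec (CommRingCat.of k))]

attribute [local instance] EulerDeg.secModule

include k in
theorem subsingleton_HH_of_support_empty {F : X.Modules} (hF : Coh.IsCoh F)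
    (h : CohB1.support F = ∅) (n : ℕ) : Subsingleton (Coh.HH X F n) := by
  have := hF.1
  have hz := (QCohMod.isZero_iff_support_eq_empty _).2 h
  refine subsingleton_of_forall_eq 0 fun z => ?_
  have e : EulerDeg.hMap k (𝟙 F) n z = z := by
    rw [EulerDeg.hMap_id]; rfl
  rw [← e, (IsZero.iff_id_eq_zero _).1 hz, EulerDeg.hMap_apply, EulerDeg.abMap_zero, Sheaf.H.map_apply,
    Abelian.Ext.mk₀_zero, Abelian.Ext.comp_zero]

/-- Sections of a twist on an integral curve are bounded by the degree. -/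
theorem h0_curve_le [IsAlgClosed k] {C : X.IdealSheafData} [AlgebraicGeometry.IsIntegral C.subscheme]
    (hd : topologicalKrullDim (C.support : Set X) ≤ 1) {M : X.Modules} (hM : PicF.IsInvertible M) :
    (Module.finrank k (Coh.HH X (CohB1.tensorMod (ClSub.quotMod C) M) 0) : ℤ) ≤
        Curv2.euler k X (CohB1.tensorMod (ClSub.quotMod C) M) - Curv2.euler k X (ClSub.quotMod C) + 1 ∨
      Subsingleton (Coh.HH X (CohB1.tensorMod (ClSub.quotMod C) M) 0) := by
  let Z := C.subscheme
  let ι := C.subschemeι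
  letI : Z.Over (Spec (CommRingCat.of k)) := ⟨ι ≫ (X ↘ Spec (CommRingCat.of k))⟩
  haveI : IsProper (Z ↘ Spec (CommRingCat.of k)) :=
    inferInstanceAs (IsProper (ι ≫ (X ↘ Spec (CommRingCat.of k))))
  have hdimZ : topologicalKrullDim Z ≤ 1 := by
    have hh := ι.isClosedEmbedding.toIsEmbedding.toHomeomorph
    rw [IsHomeomorph.topologicalKrullDim_eq _ hh.isHomeomorph, C.range_subschemeι]
    exact hd
  let L := (Scheme.Modules.pullback ι).obj M
  have hL : PicF.IsInvertible L := isInvertible_pullback ι hM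
  let e : CohB1.tensorMod (ClSub.quotMod C) M ≅ (Coh.push ι).obj L :=
    (tensor_comm _ M).some ≪≫ (tensor_push ι hM (Coh.structureModule Z)).some ≪≫
      (Coh.push ι).mapIso ((tensor_comm _ _).some ≪≫ (tensor_one L).some)
  have h0 : Module.finrank k (Coh.HH Z (Coh.structureModule Z) 0) = 1 := by
    refine le_antisymm (finrank_h0_structure_le k) ?_
    haveI : Nonempty (⊤ : Z.Opens) := ⟨⟨genericPoint Z, trivial⟩⟩
    have : Nontrivial Γ(Coh.structureModule Z, (⊤ : Z.Opens)) := inferInstanceAs (Nontrivial Γ(Z, ⊤))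
    have : Nontrivial (Coh.HH Z (Coh.structureModule Z) 0) :=
      (EulerDeg.h0Equiv k (Coh.structureModule Z)).toEquiv.nontrivial
    have : IsNoetherian Z := Groth.Inter.isNoetherian k
    have : Module.Finite k (Coh.HH Z (Coh.structureModule Z) 0) := (finCoh k QCohMod.isCoh_unit).finite 0
    exact Module.finrank_pos
  obtain ⟨f⟩ := CohC3.nonempty_linearEquiv_push_closed ι (X ↘ Spec (CommRingCat.of k)) 0 L
  rcases subsingleton_or_nontrivial (Coh.HH Z L 0) with hs | hs
  · haveI : Subsingleton (Coh.HH X ((Coh.push ι).obj L) 0) := @Equiv.subsingleton _ _ f.toEquiv hs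
    exact Or.inr (EulerDeg.hEquiv k e 0).toEquiv.subsingleton
  · left
    rw [EulerDeg.euler_congr k e, euler_push k ι rfl,
      show ClSub.quotMod C = (Coh.push ι).obj (Coh.structureModule Z) from rfl, euler_push k ι rfl,
      (EulerDeg.hEquiv k e 0).finrank_eq]
    have h := (Curves1.RR.h0_le_deg_add_one k hdimZ h0 hL hs).2
    rw [Curv2.deg] at h
    push_cast at h
    refine le_of_eq_of_le (congrArg Nat.cast f.finrank_eq) (h.trans (le_of_eq ?_))
    ring

variable [AlgebraicGeometry.IsIntegral X] (hdim : topologicalKrullDim X = 2)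

include k hdim

/-- The twisted sequence of a product of divisors. -/
theorem exists_twist_seq {I J : X.IdealSheafData} (hI : BlowUp.IsEffCartierIdeal I)
    (hJ : BlowUp.IsEffCartierIdeal J) {M : X.Modules} (hM : PicF.IsInvertible M) :
    ∃ S : ShortComplex X.Modules, S.ShortExact ∧
      Nonempty (S.X₁ ≅ CohB1.tensorMod (ClSub.quotMod J) (CohB1.tensorMod M (ClSub.idealMod I))) ∧
      Nonempty (S.X₂ ≅ CohB1.tensorMod (ClSub.quotMod (I * J)) M) ∧
      Nonempty (S.X₃ ≅ CohB1.tensorMod (ClSub.quotMod I) M) := by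
  obtain ⟨S, hS, ⟨e₁⟩, ⟨e₂⟩, ⟨e₃⟩⟩ := ModelsGraphs.QuotMulSeq.exists_shortExact hI hJ
  obtain ⟨S', hS', ⟨d₁⟩, ⟨d₂⟩, ⟨d₃⟩⟩ := exists_shortExact_twist hM hS
  exact ⟨S', hS',
    ⟨d₁ ≪≫ (tensor_congr ⟨Iso.refl M⟩ ⟨e₁⟩).some ≪≫ (tensor_left_comm M _ _).some⟩,
    ⟨d₂ ≪≫ (tensor_congr ⟨Iso.refl M⟩ ⟨e₂⟩).some ≪≫ (tensor_comm _ _).some⟩,
    ⟨d₃ ≪≫ (tensor_congr ⟨Iso.refl M⟩ ⟨e₃⟩).some ≪≫ (tensor_comm _ _).some⟩⟩

/-- Vanishing of `H¹` passes to smaller divisors. -/
theorem subsingleton_h1_left {I J : X.IdealSheafData} (hI : BlowUp.IsEffCartierIdeal I)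
    (hJ : BlowUp.IsEffCartierIdeal J) (h : Subsingleton (Coh.HH X (ClSub.quotMod (I * J)) 1)) :
    Subsingleton (Coh.HH X (ClSub.quotMod I) 1) := by
  have hN : IsNoetherian X := Groth.Inter.isNoetherian k
  obtain ⟨S, hS, ⟨e₁⟩, ⟨e₂⟩, ⟨e₃⟩⟩ := ModelsGraphs.QuotMulSeq.exists_shortExact hI hJ
  obtain ⟨hc, hsup⟩ := support_quotMod k J
  have hsub : CohB1.support (CohB1.tensorMod (ClSub.idealMod I) (ClSub.quotMod J)) ⊆ J.support :=
    (support_twist_subset _ _).trans hsup.le
  have h2 : Subsingleton (Coh.HH X (CohB1.tensorMod (ClSub.idealMod I) (ClSub.quotMod J)) 2) :=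
    Variety2.Reg.subsingleton_HH_of_support_one _ J.support.isClosed
      (by simpa using dim_support_le_one k hdim hJ) hsub le_rfl
  haveI : Subsingleton (Coh.HH X S.X₁ 2) :=
    (EulerDeg.hEquiv k (e₁ ≪≫ (tensor_comm _ _).some) 2).toEquiv.subsingleton
  haveI : Subsingleton (Coh.HH X S.X₂ 1) := (EulerDeg.hEquiv k e₂ 1).toEquiv.subsingleton
  haveI : Subsingleton (Coh.HH X S.X₃ 1) := subsingleton_of_forall_eq 0 fun y => by
    obtain ⟨z, rfl⟩ := (EulerDeg.exact_right k hS 1 y).1 (Subsingleton.elim _ _)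
    rw [Subsingleton.elim z 0, map_zero]
  exact (EulerDeg.hEquiv k e₃ 1).symm.toEquiv.subsingleton

section Config

variable {ι : Type} [Fintype ι] [DecidableEq ι] (C : ι → X.IdealSheafData)
  (hC : ∀ i, BlowUp.IsEffCartierIdeal (C i))

omit k hdim [IsProper (X ↘ Spec (CommRingCat.of k))] [AlgebraicGeometry.IsIntegral X] [DecidableEq ι] in
theorem prodPow_add (a b : ι → ℕ) : (∏ i, C i ^ (a + b) i) = (∏ i, C i ^ a i) * ∏ i, C i ^ b i := by
  simp only [Pi.add_apply, pow_add, Finset.prod_mul_distrib]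

include hC

/-- The vanishing criterion with a twist of nonnegative degree on the curves. -/
theorem subsingleton_h1_prodPow_twist [IsAlgClosed k] (hint : ∀ i, AlgebraicGeometry.IsIntegral (C i).subscheme)
    (hd : ∀ i, topologicalKrullDim ((C i).support : Set X) ≤ 1)
    (h1 : ∀ i, Subsingleton (Coh.HH X (ClSub.quotMod (C i)) 1)) {M : X.Modules} (hM : PicF.IsInvertible M)
    (hMC : ∀ i, pair k (ClSub.idealMod (C i)) M ≤ 0) (a : ι → ℕ)
    (h : ∀ b : ι → ℕ, b ≤ a → b ≠ 0 → ∃ i, 0 < b i ∧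
      ∑ j, (b j : ℤ) * pair k (ClSub.idealMod (C j)) (ClSub.idealMod (C i)) -
        pair k (ClSub.idealMod (C i)) (ClSub.idealMod (C i)) ≤ 1) :
    Subsingleton (Coh.HH X (CohB1.tensorMod (ClSub.quotMod (∏ i, C i ^ a i)) M) 1) := by
  have hN : IsNoetherian X := Groth.Inter.isNoetherian k
  induction hn : ∑ i, a i generalizing a with
  | zero =>
    have ha : a = 0 := funext fun i => by
      simpa using (Finset.sum_eq_zero_iff.1 hn) i (Finset.mem_univ i)
    subst ha
    simp only [Pi.zero_apply, pow_zero, Finset.prod_const_one]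
    rw [Scheme.IdealSheafData.one_eq_top]
    obtain ⟨hc, hsup⟩ := support_quotMod k (⊤ : X.IdealSheafData)
    have hsub : CohB1.support (CohB1.tensorMod M (ClSub.quotMod (⊤ : X.IdealSheafData))) = ∅ :=
      Set.subset_empty_iff.1 ((support_twist_subset _ _).trans (hsup.le.trans (by simp)))
    haveI := subsingleton_HH_of_support_empty k (isCoh_twist hM hc) hsub 1
    exact (EulerDeg.hEquiv k (tensor_comm _ M).some 1).toEquiv.subsingleton
  | succ n ih =>
    obtain ⟨i, hi, hle⟩ := h a le_rfl fun e => by simp [e] at hn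
    set b : ι → ℕ := a - Pi.single i 1
    have hab : ∀ j, (a j : ℤ) = (b j : ℤ) + if j = i then 1 else 0 := fun j => by
      rcases eq_or_ne j i with rfl | h
      · simp only [b, if_true, Pi.sub_apply, Pi.single_eq_same]; omega
      · simp [b, h]
    have hs : ∑ j, b j = n := by
      have : ((∑ j, a j : ℕ) : ℤ) = (∑ j, b j : ℕ) + 1 := by
        push_cast
        simp only [hab, Finset.sum_add_distrib, Finset.sum_ite_eq', Finset.mem_univ, if_true]
      omega
    have hba : b ≤ a := fun j => Nat.sub_le _ _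
    have hD := isEffCartier_prodPow C hC b
    rw [prodPow_sub_mul C a hi]
    obtain ⟨S, hS, ⟨e₁⟩, ⟨e₂⟩, ⟨e₃⟩⟩ := exists_twist_seq k hdim hD (hC i) hM
    haveI := ih b (fun c hc => h c (hc.trans hba)) hs
    haveI : Subsingleton (Coh.HH X (CohB1.tensorMod (ClSub.quotMod (C i))
        (CohB1.tensorMod M (ClSub.idealMod (∏ j, C j ^ b j)))) 1) := by
      haveI := hint i
      have hID := isInvertible_idealMod hD
      refine subsingleton_h1_curve k (hd i) (h1 i) (isInvertible_tensorMod hM hID) ?_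
      rw [deg_eq k (hC i) (isInvertible_tensorMod hM hID), pair_comm k,
        pair_tensor k hdim.le hM hID (isInvertible_idealMod (hC i)), pair_comm k M,
        pair_prodPow k hdim C hC b (isInvertible_idealMod (hC i))]
      simp only [hab, add_mul, ite_mul, one_mul, zero_mul, Finset.sum_add_distrib, Finset.sum_ite_eq',
        Finset.mem_univ, if_true] at hle
      have := hMC i
      linarith
    haveI : Subsingleton (Coh.HH X S.X₃ 1) := (EulerDeg.hEquiv k e₃ 1).toEquiv.subsingleton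
    haveI : Subsingleton (Coh.HH X S.X₁ 1) := (EulerDeg.hEquiv k e₁ 1).toEquiv.subsingleton
    haveI : Subsingleton (Coh.HH X S.X₂ 1) := by
      refine subsingleton_of_forall_eq 0 fun y => ?_
      obtain ⟨z, rfl⟩ := (EulerDeg.exact_mid k hS 1 y).1 (Subsingleton.elim _ _)
      rw [Subsingleton.elim z 0, map_zero]
    exact (EulerDeg.hEquiv k e₂ 1).symm.toEquiv.subsingleton

/-- A cycle of rational curves with positive Euler characteristic has a curve of small pairing. -/
theorem exists_small_of_euler (hχ : ∀ i, Curv2.euler k X (ClSub.quotMod (C i)) = 1) {b : ι → ℕ}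
    (hb : 1 ≤ Curv2.euler k X (ClSub.quotMod (∏ i, C i ^ b i))) :
    ∃ i, 0 < b i ∧ ∑ j, (b j : ℤ) * pair k (ClSub.idealMod (C j)) (ClSub.idealMod (C i)) -
        pair k (ClSub.idealMod (C i)) (ClSub.idealMod (C i)) ≤ 1 := by
  by_contra hcon
  push Not at hcon
  have hid := euler_prodPow k hdim C hC b
  rw [pair_prodPow k hdim C hC b (isInvertible_idealMod (isEffCartier_prodPow C hC b))] at hid
  have hsum : ∑ i, (b i : ℤ) * (2 * Curv2.euler k X (ClSub.quotMod (C i)) +
      pair k (ClSub.idealMod (C i)) (ClSub.idealMod (C i))) ≤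
      ∑ i, (b i : ℤ) * pair k (ClSub.idealMod (C i)) (ClSub.idealMod (∏ i, C i ^ b i)) := by
    refine Finset.sum_le_sum fun i _ => ?_
    rcases Nat.eq_zero_or_pos (b i) with h0 | h0
    · simp [h0]
    · refine mul_le_mul_of_nonneg_left ?_ (Int.natCast_nonneg _)
      have h2 := hcon i h0
      rw [hχ, pair_comm k _ (ClSub.idealMod (∏ i, C i ^ b i)), pair_prodPow k hdim C hC b (isInvertible_idealMod (hC i))]
      omega
  linarith

variable (hoff : ∀ i j, i ≠ j → 0 ≤ pair k (ClSub.idealMod (C i)) (ClSub.idealMod (C j)))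
  {a : ι → ℕ} (haC : ∀ i, pair k (ClSub.idealMod (C i)) (ClSub.idealMod (∏ j, C j ^ a j)) ≤ 0)

include hoff haC

omit [DecidableEq ι] in
/-- The fundamental cycle of a connected configuration involves all the curves. -/
theorem pos_of_connected (ha : a ≠ 0)
    (hconn : ∀ S : Finset ι, S.Nonempty → S ≠ Finset.univ → ∃ i ∈ S, ∃ j ∉ S,
      pair k (ClSub.idealMod (C i)) (ClSub.idealMod (C j)) ≠ 0) (i : ι) : 0 < a i := by
  classical
  by_contra hi
  obtain ⟨i₀, hi₀⟩ := Function.ne_iff.1 ha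
  obtain ⟨p, hp, q, hq, hpq⟩ := hconn (Finset.univ.filter fun j => 0 < a j)
    ⟨i₀, Finset.mem_filter.2 ⟨Finset.mem_univ _, Nat.pos_of_ne_zero hi₀⟩⟩
    fun e => hi (Finset.mem_filter.1 (e.ge (Finset.mem_univ i))).2
  simp only [Finset.mem_filter, Finset.mem_univ, true_and, not_lt, Nat.le_zero] at hp hq
  have hne : p ≠ q := fun e => by rw [e, hq] at hp; exact lt_irrefl _ hp
  have h := haC q
  rw [pair_comm k, pair_prodPow k hdim C hC a (isInvertible_idealMod (hC q))] at h
  refine absurd h (not_le.2 (Finset.sum_pos' (fun j _ => ?_) ⟨p, Finset.mem_univ _,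
    mul_pos (by exact_mod_cast hp) (lt_of_le_of_ne (hoff p q hne) hpq.symm)⟩))
  rcases eq_or_ne j q with rfl | hj
  · rw [hq, Nat.cast_zero, zero_mul]
  · exact mul_nonneg (Int.natCast_nonneg _) (hoff j q hj)

/-- Artin's inequality: positive Euler characteristic of the fundamental cycle spreads to all cycles. -/
theorem one_le_euler_of_fundamental (hfull : ∀ i, 0 < a i)
    (hχa : Curv2.euler k X (ClSub.quotMod (∏ i, C i ^ a i)) = 1)
    (hsub : ∀ c : ι → ℕ, c ≤ a → c ≠ 0 → 1 ≤ Curv2.euler k X (ClSub.quotMod (∏ i, C i ^ c i))) :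
    ∀ b : ι → ℕ, b ≠ 0 → 1 ≤ Curv2.euler k X (ClSub.quotMod (∏ i, C i ^ b i)) := by
  intro b
  induction hn : ∑ i, b i using Nat.strong_induction_on generalizing b with
  | _ n ih =>
    intro hb
    subst hn
    let c : ι → ℕ := fun i => min (a i) (b i)
    let p : ι → ℕ := fun i => a i - b i
    let q : ι → ℕ := fun i => b i - a i
    obtain ⟨i₀, hi₀⟩ := Function.ne_iff.1 hb
    have hc0 : c ≠ 0 := fun e => by
      have := congrFun e i₀
      have := hfull i₀
      simp only [c, Pi.zero_apply] at *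
      omega
    have hchi : ∀ x y : ι → ℕ, Curv2.euler k X (ClSub.quotMod (∏ i, C i ^ (x + y) i)) =
        Curv2.euler k X (ClSub.quotMod (∏ i, C i ^ x i)) + Curv2.euler k X (ClSub.quotMod (∏ i, C i ^ y i)) -
          pair k (ClSub.idealMod (∏ i, C i ^ x i)) (ClSub.idealMod (∏ i, C i ^ y i)) := fun x y => by
      rw [prodPow_add C x y, euler_quot_mul k hdim (isEffCartier_prodPow C hC x) (isEffCartier_prodPow C hC y)]
    have hI : ∀ x : ι → ℕ, PicF.IsInvertible (ClSub.idealMod (∏ i, C i ^ x i)) :=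
      fun x => isInvertible_idealMod (isEffCartier_prodPow C hC x)
    have e₁ : a = c + p := funext fun i => by simp only [c, p, Pi.add_apply]; omega
    have e₂ : b = c + q := funext fun i => by simp only [c, q, Pi.add_apply]; omega
    have e₃ : a + q = b + p := funext fun i => by simp only [p, q, Pi.add_apply]; omega
    have h₁ := hchi c p
    rw [← e₁, hχa] at h₁
    have h₂ := hchi b p
    rw [← e₃] at h₂
    have h₃ : pair k (ClSub.idealMod (∏ i, C i ^ b i)) (ClSub.idealMod (∏ i, C i ^ p i)) =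
        pair k (ClSub.idealMod (∏ i, C i ^ c i)) (ClSub.idealMod (∏ i, C i ^ p i)) +
          pair k (ClSub.idealMod (∏ i, C i ^ q i)) (ClSub.idealMod (∏ i, C i ^ p i)) := by
      rw [pair_prodPow k hdim C hC b (hI p), pair_prodPow k hdim C hC c (hI p),
        pair_prodPow k hdim C hC q (hI p), ← Finset.sum_add_distrib]
      refine Finset.sum_congr rfl fun i _ => ?_
      rw [← add_mul, e₂]
      simp
    have h₄ : 0 ≤ pair k (ClSub.idealMod (∏ i, C i ^ q i)) (ClSub.idealMod (∏ i, C i ^ p i)) := by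
      rw [pair_prodPow k hdim C hC q (hI p)]
      refine Finset.sum_nonneg fun i _ => ?_
      rw [pair_comm k, pair_prodPow k hdim C hC p (isInvertible_idealMod (hC i)), Finset.mul_sum]
      refine Finset.sum_nonneg fun j _ => ?_
      rcases eq_or_ne j i with rfl | hj
      · simp only [p, q]
        rcases le_total (a j) (b j) with h | h <;> simp [Nat.sub_eq_zero_of_le h]
      · exact mul_nonneg (Int.natCast_nonneg _) (mul_nonneg (Int.natCast_nonneg _) (hoff j i hj))
    have h₅ : 0 ≤ Curv2.euler k X (ClSub.quotMod (∏ i, C i ^ q i)) := by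
      rcases eq_or_ne q 0 with hq | hq
      · rw [hq]
        simp only [Pi.zero_apply, pow_zero, Finset.prod_const_one]
        rw [Scheme.IdealSheafData.one_eq_top, euler_quot_top k]
      · refine le_trans zero_le_one (ih _ (Finset.sum_lt_sum (fun i _ => Nat.sub_le _ _)
          ⟨i₀, Finset.mem_univ _, ?_⟩) q rfl hq)
        have := hfull i₀
        simp only [Pi.zero_apply] at hi₀
        omega
    have h₆ : pair k (ClSub.idealMod (∏ i, C i ^ a i)) (ClSub.idealMod (∏ i, C i ^ q i)) ≤ 0 := by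
      rw [pair_comm k, pair_prodPow k hdim C hC q (hI a)]
      exact Finset.sum_nonpos fun i _ => mul_nonpos_of_nonneg_of_nonpos (Int.natCast_nonneg _) (haC i)
    have h₇ := hchi a q
    rw [hχa] at h₇
    have h₈ := hsub c (fun i => min_le_left _ _) hc0
    linarith

omit haC in
/-- A computation sequence from a curve to the fundamental cycle keeps the global functions constant. -/
theorem finrank_h0_fundamental_le [IsAlgClosed k] (hint : ∀ i, AlgebraicGeometry.IsIntegral (C i).subscheme)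
    (hd : ∀ i, topologicalKrullDim ((C i).support : Set X) ≤ 1) (ha : a ≠ 0)
    (haC : ∀ i, pair k (ClSub.idealMod (C i)) (ClSub.idealMod (∏ j, C j ^ a j)) ≤ 0)
    (hmin : ∀ b : ι → ℕ, b ≤ a → b ≠ 0 →
      (∀ i, pair k (ClSub.idealMod (C i)) (ClSub.idealMod (∏ j, C j ^ b j)) ≤ 0) →
      (∏ j, C j ^ b j) = ∏ j, C j ^ a j) :
    Module.finrank k (Coh.HH X (ClSub.quotMod (∏ i, C i ^ a i)) 0) ≤ 1 := by
  have hN : IsNoetherian X := Groth.Inter.isNoetherian k
  suffices key : ∀ n : ℕ, ∀ b : ι → ℕ, b ≤ a → b ≠ 0 → ∑ i, a i = ∑ i, b i + n →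
      Module.finrank k (Coh.HH X (ClSub.quotMod (∏ i, C i ^ b i)) 0) ≤ 1 →
      Module.finrank k (Coh.HH X (ClSub.quotMod (∏ i, C i ^ a i)) 0) ≤ 1 by
    obtain ⟨i₀, hi₀⟩ := Function.ne_iff.1 ha
    have hle : (Pi.single i₀ 1 : ι → ℕ) ≤ a := fun j => by
      rcases eq_or_ne j i₀ with rfl | h
      · simpa [Nat.one_le_iff_ne_zero] using hi₀
      · simp [h]
    obtain ⟨n, hn⟩ := Nat.exists_eq_add_of_le (Finset.sum_le_sum (s := Finset.univ) fun i _ => hle i)
    refine key n _ hle (by simp) hn ?_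
    rw [Finset.prod_eq_single i₀ (fun j _ hj => by simp [hj]) (fun h => absurd (Finset.mem_univ _) h),
      Pi.single_eq_same, pow_one]
    haveI := hint i₀
    letI : (C i₀).subscheme.Over (Spec (CommRingCat.of k)) := ⟨(C i₀).subschemeι ≫ (X ↘ Spec (CommRingCat.of k))⟩
    haveI : IsProper ((C i₀).subscheme ↘ Spec (CommRingCat.of k)) :=
      inferInstanceAs (IsProper ((C i₀).subschemeι ≫ (X ↘ Spec (CommRingCat.of k))))
    obtain ⟨f⟩ := CohC3.nonempty_linearEquiv_push_closed (C i₀).subschemeι (X ↘ Spec (CommRingCat.of k)) 0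
      (Coh.structureModule (C i₀).subscheme)
    exact (le_of_eq f.finrank_eq).trans (finrank_h0_structure_le k)
  intro n
  induction n using Nat.strong_induction_on with
  | _ n ih =>
    intro b hb hb0 hn hh
    by_cases hstop : ∀ i, pair k (ClSub.idealMod (C i)) (ClSub.idealMod (∏ j, C j ^ b j)) ≤ 0
    · rwa [← hmin b hb hb0 hstop]
    push Not at hstop
    obtain ⟨i, hi⟩ := hstop
    have hlt : b i < a i := by
      refine lt_of_le_of_ne (hb i) fun e => ?_
      have hsum : pair k (ClSub.idealMod (C i)) (ClSub.idealMod (∏ j, C j ^ b j)) ≤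
          pair k (ClSub.idealMod (C i)) (ClSub.idealMod (∏ j, C j ^ a j)) := by
        rw [pair_comm k, pair_prodPow k hdim C hC b (isInvertible_idealMod (hC i)), pair_comm k (ClSub.idealMod (C i)),
          pair_prodPow k hdim C hC a (isInvertible_idealMod (hC i))]
        refine Finset.sum_le_sum fun j _ => ?_
        rcases eq_or_ne j i with rfl | hj
        · rw [e]
        · exact mul_le_mul_of_nonneg_right (by exact_mod_cast hb j) (hoff j i hj)
      linarith [haC i]
    let b' : ι → ℕ := b + Pi.single i 1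
    have hb' : b' ≤ a := fun j => by
      rcases eq_or_ne j i with rfl | h
      · simp only [b', Pi.add_apply, Pi.single_eq_same]; omega
      · simpa [b', h] using hb j
    have hs : ∑ j, b' j = ∑ j, b j + 1 := by
      simp [b', Finset.sum_add_distrib]
    have hle := Finset.sum_le_sum (s := Finset.univ) fun j _ => hb' j
    refine ih (n - 1) (by omega) b' hb' (fun e => by simpa [b'] using congrFun e i) (by omega) ?_
    rw [prodPow_add C b, Finset.prod_eq_single (s := Finset.univ) (f := fun j => C j ^ (Pi.single i 1 : ι → ℕ) j) i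
      (fun j _ hj => by simp [hj]) (fun h => absurd (Finset.mem_univ _) h), Pi.single_eq_same, pow_one]
    obtain ⟨S, hS, ⟨e₁⟩, ⟨e₂⟩, ⟨e₃⟩⟩ :=
      ModelsGraphs.QuotMulSeq.exists_shortExact (isEffCartier_prodPow C hC b) (hC i)
    haveI := hint i
    have hID := isInvertible_idealMod (isEffCartier_prodPow C hC b)
    have hdeg := deg_eq k (hC i) hID
    haveI : Subsingleton (Coh.HH X (CohB1.tensorMod (ClSub.quotMod (C i))
        (ClSub.idealMod (∏ j, C j ^ b j))) 0) := by
      rcases h0_curve_le k (hd i) hID with h | h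
      · rw [hdeg] at h
        haveI : Module.Finite k (Coh.HH X (CohB1.tensorMod (ClSub.quotMod (C i))
            (ClSub.idealMod (∏ j, C j ^ b j))) 0) :=
          (finCoh k (QCohMod.isCoh_of_iso (tensor_comm _ _).some
            (isCoh_twist hID (support_quotMod k (C i)).1))).finite 0
        exact (Module.finrank_zero_iff (R := k)).1 (by omega)
      · exact h
    haveI : Subsingleton (Coh.HH X S.X₁ 0) := (EulerDeg.hEquiv k e₁ 0).toEquiv.subsingleton
    haveI : Module.Finite k (Coh.HH X S.X₃ 0) :=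
      (finCoh k (QCohMod.isCoh_of_iso e₃.symm (support_quotMod k _).1)).finite 0
    refine le_trans ?_ hh
    rw [← (EulerDeg.hEquiv k e₂ 0).finrank_eq, ← (EulerDeg.hEquiv k e₃ 0).finrank_eq]
    refine LinearMap.finrank_le_finrank_of_injective (f := EulerDeg.hMap k S.g 0)
      ((injective_iff_map_eq_zero _).2 fun z hz => ?_)
    obtain ⟨w, rfl⟩ := (EulerDeg.exact_mid k hS 0 z).1 hz
    rw [Subsingleton.elim w 0, map_zero]

end Config

/-- The data of a fundamental cycle on a connected configuration of curves. -/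
theorem exists_fundamental_data [IsAlgClosed k] (hreg : ∀ x : X, IsRegularLocalRing (X.presheaf.stalk x))
    {r : ℕ} (C : Fin r → X.IdealSheafData) (hinj : Function.Injective C) (hc : ∀ i, IsCurve (C i))
    (hconn : ∀ S : Finset (Fin r), S.Nonempty → Sᶜ.Nonempty →
      ∃ i ∈ S, ∃ j ∈ Sᶜ, pair k (ClSub.idealMod (C i)) (ClSub.idealMod (C j)) ≠ 0)
    (Z₀ : X.IdealSheafData) (hZ₀ : BlowUp.IsEffCartierIdeal Z₀) (hZ₀0 : Z₀ ≠ ⊤)
    (hZ₀s : (Z₀.support : Set X) ⊆ ⋃ i, ((C i).support : Set X))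
    (hZ₀C : ∀ i, 0 ≤ Curv2.euler k X (CohB1.tensorMod (ClSub.quotMod (C i)) (ClSub.idealMod Z₀)) -
      Curv2.euler k X (ClSub.quotMod (C i)))
    (hZ₀min : ∀ Z : X.IdealSheafData, FGA.IsEffCartier Z → Z ≠ ⊤ → (Z.support : Set X) ⊆ ⋃ i, ((C i).support : Set X) →
      (∀ i, 0 ≤ Curv2.euler k X (CohB1.tensorMod (ClSub.quotMod (C i)) (ClSub.idealMod Z)) -
        Curv2.euler k X (ClSub.quotMod (C i))) → Z ≤ Z₀) :
    ∃ a : Fin r → ℕ, Z₀ = ∏ i, C i ^ a i ∧ (∀ i, 0 < a i) ∧
      (∀ i j, i ≠ j → 0 ≤ pair k (ClSub.idealMod (C i)) (ClSub.idealMod (C j))) ∧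
      (∀ i, pair k (ClSub.idealMod (C i)) (ClSub.idealMod (∏ j, C j ^ a j)) ≤ 0) ∧
      Module.finrank k (Coh.HH X (ClSub.quotMod Z₀) 0) = 1 ∧
      ∀ b : Fin r → ℕ, b ≠ 0 → (∏ i, C i ^ b i) ≠ ⊤ ∧
        ((∏ i, C i ^ b i).support : Set X) ⊆ ⋃ i, ((C i).support : Set X) := by
  classical
  have hN : IsNoetherian X := Groth.Inter.isNoetherian k
  have hCe : ∀ i, BlowUp.IsEffCartierIdeal (C i) := fun i => (hc i).isEffCartier k hdim hreg
  obtain ⟨a, rfl⟩ := RefRank.EffCartierLocal.exists_eq_prod Z₀ hZ₀ C hCe (fun i => (hc i).1) hZ₀s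
  have hoff : ∀ i j, i ≠ j → 0 ≤ pair k (ClSub.idealMod (C i)) (ClSub.idealMod (C j)) :=
    fun i j h => pair_nonneg_of_ne k hdim hreg (hc i) (hc j) (hinj.ne h)
  have hnef : ∀ b : Fin r → ℕ, (∀ i, 0 ≤ Curv2.euler k X (CohB1.tensorMod (ClSub.quotMod (C i))
      (ClSub.idealMod (∏ j, C j ^ b j))) - Curv2.euler k X (ClSub.quotMod (C i))) ↔
      ∀ i, pair k (ClSub.idealMod (C i)) (ClSub.idealMod (∏ j, C j ^ b j)) ≤ 0 := fun b =>
    forall_congr' fun i => by
      rw [deg_eq k (hCe i) (isInvertible_idealMod (isEffCartier_prodPow C hCe b)), neg_nonneg]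
  have haC := (hnef a).1 hZ₀C
  have hbs : ∀ b : Fin r → ℕ, b ≠ 0 → (∏ i, C i ^ b i) ≠ ⊤ ∧
      ((∏ i, C i ^ b i).support : Set X) ⊆ ⋃ i, ((C i).support : Set X) := by
    intro b hb
    refine ⟨fun e => ?_, ?_⟩
    · obtain ⟨i, hi⟩ := Function.ne_iff.1 hb
      obtain ⟨ξ, -, hs, -⟩ := (hc i).exists_pt
      rw [prodPow_sub_mul C b (Nat.pos_of_ne_zero hi)] at e
      have hmem : ξ ∈ ((∏ j, C j ^ (b - Pi.single i 1 : _ → ℕ) j) * C i).support := by
        rw [Scheme.IdealSheafData.support_mul]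
        refine Or.inr ?_
        change ξ ∈ ((C i).support : Set X)
        rw [hs]; exact subset_closure rfl
      rw [e, Scheme.IdealSheafData.support_top] at hmem
      exact hmem
    · refine Finset.prod_induction (fun i => C i ^ b i)
        (fun I => (I.support : Set X) ⊆ ⋃ i, ((C i).support : Set X)) (fun I J hI hJ => ?_) (by simp) fun i _ => ?_
      · rw [Scheme.IdealSheafData.support_mul]; exact Set.union_subset hI hJ
      · rcases Nat.eq_zero_or_pos (b i) with h | h
        · rw [h, pow_zero, Scheme.IdealSheafData.one_eq_top, Scheme.IdealSheafData.support_top]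
          exact fun x hx => hx.elim
        · rw [Scheme.IdealSheafData.support_pow _ _ h.ne']
          exact Set.subset_iUnion (fun i => ((C i).support : Set X)) i
  have ha : a ≠ 0 := fun e => hZ₀0 (by
    subst e
    simp only [Pi.zero_apply, pow_zero, Finset.prod_const_one]
    exact Scheme.IdealSheafData.one_eq_top)
  have hfull : ∀ i, 0 < a i := pos_of_connected k hdim C hCe hoff haC ha fun S hS hSu => by
    obtain ⟨i, hi, j, hj, h⟩ := hconn S hS (by
      rw [← Finset.compl_ne_univ_iff_nonempty, compl_compl]; exact hSu)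
    exact ⟨i, hi, j, Finset.mem_compl.1 hj, h⟩
  refine ⟨a, rfl, hfull, hoff, haC, le_antisymm ?_ ?_, hbs⟩
  · refine finrank_h0_fundamental_le k hdim C hCe hoff (fun i => (hc i).1) (fun i => (hc i).2.le) ha haC
      fun b hb hb0 hbC => ?_
    refine le_antisymm (hZ₀min _ (fun x => isEffCartier_prodPow C hCe b x) (hbs b hb0).1 (hbs b hb0).2
      ((hnef b).2 hbC)) ?_
    have : a = b + (a - b) := funext fun i => (Nat.add_sub_cancel' (hb i)).symm
    rw [this, prodPow_add C b]
    exact fun W => by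
      simp only [Scheme.IdealSheafData.ideal_mul, Pi.mul_apply]
      exact Ideal.mul_le_left
  · exact h0_quot_pos k (Set.nonempty_iff_ne_empty.2 fun h =>
      hZ₀0 ((Scheme.IdealSheafData.support_eq_bot_iff _).1 (SetLike.coe_injective h)))

end Groth.AffineDiv
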