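import Groth.Agent.AffineDiv.Poles
import Groth.Agent.SurfNum.Cones
import Groth.Agent.FlatmorThree.AffineComplement
import Groth.Agent.SmoothWeil.Geom

/-!
# The complement of an affine open in a regular proper surface supports an ample divisor
-/

universe u

open CategoryTheory CategoryTheory.Limits AlgebraicGeometry TopologicalSpace

namespace Groth.AffineDiv

open Groth.Inter Groth.SurfNum Groth.AffineCompl Groth.PicAux Groth.PropsBasic.Ample

variable {X : Scheme.{u}} (k : Type u) [Field k] [X.Over (Spec (CommRingCat.of k))]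
  [IsProper (X ↘ Spec (CommRingCat.of k))] [AlgebraicGeometry.IsIntegral X]
  (hdim : topologicalKrullDim X = 2) (hreg : ∀ x : X, IsRegularLocalRing (X.presheaf.stalk x))

include k hdim hreg

theorem exists_ample_divisor {U : X.Opens} (hU : IsAffineOpen U) (hne : (U : Set X).Nonempty) :
    ∃ I : X.IdealSheafData, BlowUp.IsEffCartierIdeal I ∧ (I.support : Set X) = (U : Set X)ᶜ ∧
      ∀ L : X.Modules, PicF.IsInvertible L → ClSub.IsInverseOf L (ClSub.idealMod I) → CohB1.IsAmple L := by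
  classical
  let p := X ↘ Spec (CommRingCat.of k)
  haveI : X.IsSeparated := ⟨Limits.terminal.comp_from p ▸ inferInstance⟩
  have hN : IsNoetherian X := Groth.Inter.isNoetherian k
  have hfact : ∀ x : X, ∃ _ : IsDomain (X.presheaf.stalk x),
      UniqueFactorizationMonoid (X.presheaf.stalk x) := fun x => by
    haveI := hreg x
    obtain ⟨h₁, h₂⟩ := Agent.S2821.result (X.presheaf.stalk x)
    exact ⟨h₁, h₂⟩
  have hnorm : Pi1.IsNormalScheme X := fun x => by
    obtain ⟨_, _⟩ := hfact x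
    exact ⟨‹_›, inferInstance⟩
  -- the reduced complement
  have hEc := FlatmorThree.AffineCompl.isEffCartierIdeal_compl hfact
    (fun V W hV hW => IsAffineOpen.inf hV hW) hU (U.isOpen.dense hne)
  set E := Scheme.IdealSheafData.vanishingIdeal U.compl
  have hEs : (E.support : Set X) = (U : Set X)ᶜ := Scheme.IdealSheafData.coe_support_vanishingIdeal _
  obtain ⟨P, T, hP, hT⟩ := FlatmorThree.AmpleFam.exists_canonical hEc
  have hTU : gloc T = U := by
    rw [hT]
    ext x
    change x ∈ (E.support : Set X)ᶜ ↔ x ∈ U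
    rw [hEs, compl_compl]
    rfl
  subst hTU
  set U := gloc T
  haveI : Nonempty U := hne.to_subtype
  have hfin := finite_dim_closure_eq (n := 1) E.support.isClosed (dim_support_le_one k hdim hEc)
  set G := hfin.toFinset
  have hG : ∀ y, y ∈ G ↔ y ∉ U ∧ topologicalKrullDim (closure ({y} : Set X)) = ((1 : ℕ) : WithBot ℕ∞) := fun y => by
    rw [hfin.mem_toFinset]
    change y ∈ (E.support : Set X) ∧ _ ↔ _
    rw [hEs]
    rfl
  have hgen : ∀ z ∈ (U : Set X)ᶜ, ∃ y ∈ G, y ⤳ z := fun z hz => by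
    obtain ⟨y, hy, hyz, hmax⟩ := Groth.DivisorLength.exists_maximal_generization E.support.isClosed (hEs.ge hz)
    refine ⟨y, hfin.mem_toFinset.2 ⟨hy, ?_⟩, hyz⟩
    have h1 := Groth.Divisors.dim_stalk_eq_one_of_maximal_support hEc hy hmax
    have h2 := Variety2.Dim.ringKrullDim_stalk_add_height p y
    rw [h1, hdim] at h2
    rw [Variety2.Dim.dim_closure_singleton]
    exact congrArg WithBot.some (eq_one_of_add (a := 1) (WithBot.coe_inj.1 h2) rfl)
  -- the function
  obtain ⟨w, hw, hwη, hwc, hwh⟩ := exists_point p hdim.ge hne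
  have hwd : topologicalKrullDim (closure ({w} : Set X)) = ((1 : ℕ) : WithBot ℕ∞) := by
    rw [Variety2.Dim.dim_closure_singleton, hwh]; rfl
  obtain ⟨f, hfw, hf⟩ := exists_function hnorm hU hw hwη G.finite_toSet fun y hy => ((hG y).1 hy).1
  obtain ⟨z, hzw, hzU⟩ : (closure ({w} : Set X) ∩ (U : Set X)ᶜ).Nonempty := by
    by_contra h
    refine hwc (isClosed_singleton_of_closure_subset p hU fun z hz => ?_)
    by_contra hzU
    exact h ⟨z, hz, hzU⟩
  obtain ⟨y₀, hy₀, hy₀z⟩ := hgen z hzU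
  have hf0 : f ≠ 0 := fun h => hf y₀ hy₀ (h ▸ by rw [map_zero]; exact zero_mem _)
  obtain ⟨v, s, m, hv, hws, hmw, hs, hsum⟩ := exists_polar k hdim hreg hP T f hw hwd hfw hf0 G hG hf
  -- the pairing of curves
  have hcurve : ∀ y : X, topologicalKrullDim (closure ({y} : Set X)) = ((1 : ℕ) : WithBot ℕ∞) →
      IsCurve (IntMult.ptIdeal y) := fun y hy =>
    ⟨CohTwo.isIntegral_closure_subscheme rfl, by rw [support_ptIdeal]; exact hy.trans (by simp)⟩
  have hcG : ∀ y ∈ G, IsCurve (IntMult.ptIdeal y) := fun y hy => hcurve y ((hG y).1 hy).2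
  have hinv : ∀ y ∈ G, PicF.IsInvertible (ClSub.idealMod (IntMult.ptIdeal y)) := fun y hy =>
    (hcG y hy).isInvertible k hdim hreg
  have hpt : ∀ {a b : X}, topologicalKrullDim (closure ({a} : Set X)) = ((1 : ℕ) : WithBot ℕ∞) →
      topologicalKrullDim (closure ({b} : Set X)) = ((1 : ℕ) : WithBot ℕ∞) →
      IntMult.ptIdeal a = IntMult.ptIdeal b → a = b := fun {a b} ha hb h => by
    have h' : a ∈ closure ({b} : Set X) := by
      rw [← support_ptIdeal b, ← h, support_ptIdeal]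
      exact subset_closure rfl
    exact eq_of_dim_closure h' hb.le ha.ge
  let Gm : G → G → ℤ := fun a b =>
    pair k (ClSub.idealMod (IntMult.ptIdeal a.1)) (ClSub.idealMod (IntMult.ptIdeal b.1))
  have hoff : ∀ a b, a ≠ b → 0 ≤ Gm a b := fun a b h =>
    pair_nonneg_of_ne k hdim hreg (hcG _ a.2) (hcG _ b.2) fun e =>
      h (Subtype.ext (hpt ((hG _).1 a.2).2 ((hG _).1 b.2).2 e))
  have hpos : ∀ a b : X, topologicalKrullDim (closure ({a} : Set X)) = ((1 : ℕ) : WithBot ℕ∞) →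
      topologicalKrullDim (closure ({b} : Set X)) = ((1 : ℕ) : WithBot ℕ∞) → a ≠ b →
      (closure ({a} : Set X) ∩ closure {b}).Nonempty →
      0 < pair k (ClSub.idealMod (IntMult.ptIdeal a)) (ClSub.idealMod (IntMult.ptIdeal b)) :=
    fun a b ha hb hne hm => pair_pos_of_meet k hdim hreg (hcurve a ha) (hcurve b hb)
      (fun e => hne (hpt ha hb e)) (by rwa [support_ptIdeal, support_ptIdeal])
  have hconn : _root_.IsConnected ((U : Set X)ᶜ) := isConnected_compl p hdim.ge hU hne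
  have hGsub : ∀ y ∈ G, closure ({y} : Set X) ⊆ (U : Set X)ᶜ := fun y hy =>
    U.isOpen.isClosed_compl.closure_subset_iff.2 (Set.singleton_subset_iff.2 ((hG y).1 hy).1)
  have hcon : ∀ S : Finset G, S.Nonempty → S ≠ Finset.univ → ∃ a ∈ S, ∃ b ∉ S, 0 < Gm a b := by
    intro S hS hSu
    let A : Set X := ⋃ a ∈ S, closure ({a.1} : Set X)
    let B : Set X := ⋃ b ∈ Sᶜ, closure ({b.1} : Set X)
    have hA : IsClosed A := S.finite_toSet.isClosed_biUnion fun _ _ => isClosed_closure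
    have hB : IsClosed B := Sᶜ.finite_toSet.isClosed_biUnion fun _ _ => isClosed_closure
    have hcov : (U : Set X)ᶜ ⊆ A ∪ B := fun z hz => by
      obtain ⟨y, hy, hyz⟩ := hgen z hz
      by_cases h : (⟨y, hy⟩ : G) ∈ S
      · exact Or.inl (Set.mem_biUnion h hyz.mem_closure)
      · exact Or.inr (Set.mem_biUnion (Finset.mem_compl.2 h) hyz.mem_closure)
    obtain ⟨a, ha⟩ := hS
    obtain ⟨b, hb⟩ : ∃ b, b ∉ S := by
      by_contra h
      push Not at h
      exact hSu (Finset.eq_univ_iff_forall.2 h)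
    obtain ⟨q, -, hqA, hqB⟩ := isPreconnected_closed_iff.1 hconn.isPreconnected A B hA hB hcov
      ⟨a.1, hGsub _ a.2 (subset_closure rfl), Set.mem_biUnion ha (subset_closure rfl)⟩
      ⟨b.1, hGsub _ b.2 (subset_closure rfl), Set.mem_biUnion (Finset.mem_compl.2 hb) (subset_closure rfl)⟩
    simp only [A, B, Set.mem_iUnion] at hqA hqB
    obtain ⟨a', ha', hqa⟩ := hqA
    obtain ⟨b', hb', hqb⟩ := hqB
    refine ⟨a', ha', b', Finset.mem_compl.1 hb', hpos _ _ ((hG _).1 a'.2).2 ((hG _).1 b'.2).2 (fun e => ?_)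
      ⟨q, hqa, hqb⟩⟩
    exact Finset.mem_compl.1 hb' (Subtype.ext e ▸ ha')
  -- the degrees of the polar combination
  have hcol : ∀ b : G, ∑ a : G, v a * Gm a b = ∑ y ∈ s, (m y : ℤ) *
      pair k (ClSub.idealMod (IntMult.ptIdeal y)) (ClSub.idealMod (IntMult.ptIdeal b.1)) := fun b => by
    have := hsum _ (hinv _ b.2)
    rw [Finset.sum_coe_sort G (fun a => v a * pair k (ClSub.idealMod (IntMult.ptIdeal a))
      (ClSub.idealMod (IntMult.ptIdeal b.1)))]
    rw [Finset.sum_congr rfl fun a ha => by rw [pair_idealMod k ((hcG a ha).isEffCartier k hdim hreg) (hinv _ b.2)],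
      this]
    refine Finset.sum_congr rfl fun y hy => ?_
    rw [pair_idealMod k ((hcurve y (hs y hy).2).isEffCartier k hdim hreg) (hinv _ b.2)]
  have hne_s : ∀ y ∈ s, ∀ b : G, y ≠ b.1 := fun y hy b e => ((hG _).1 b.2).1 (e ▸ (hs y hy).1)
  have hge : ∀ b : G, 0 ≤ ∑ a : G, v a * Gm a b := fun b => by
    rw [hcol]
    exact Finset.sum_nonneg fun y hy => mul_nonneg (Int.natCast_nonneg _)
      (pair_nonneg_of_ne k hdim hreg (hcurve y (hs y hy).2) (hcG _ b.2) fun e =>
        hne_s y hy b (hpt (hs y hy).2 ((hG _).1 b.2).2 e))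
  have hex : ∃ b : G, 0 < ∑ a : G, v a * Gm a b := by
    refine ⟨⟨y₀, hy₀⟩, ?_⟩
    rw [hcol]
    refine Finset.sum_pos' (fun y hy => mul_nonneg (Int.natCast_nonneg _)
      (pair_nonneg_of_ne k hdim hreg (hcurve y (hs y hy).2) (hcG _ hy₀) fun e =>
        hne_s y hy ⟨y₀, hy₀⟩ (hpt (hs y hy).2 ((hG _).1 hy₀).2 e))) ⟨w, hws, ?_⟩
    exact mul_pos (by exact_mod_cast hmw) (hpos w y₀ hwd ((hG _).1 hy₀).2 (hne_s w hws ⟨y₀, hy₀⟩)
      ⟨z, hzw, hy₀z.mem_closure⟩)
  obtain ⟨d, hd, hdpos⟩ := exists_pos_combination Gm hoff hcon (fun a => v a)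
    (fun a => (hv a a.2).le) hge hex
  obtain ⟨hI, hIs, hIp⟩ := pair_idealMod_prod k hdim.le (fun a : G => IntMult.ptIdeal a.1) d Finset.univ
    (fun a _ => (hcG _ a.2).isEffCartier k hdim hreg) (fun a _ => hd a)
  refine ⟨_, hI, ?_, fun L hL hLI => ?_⟩
  · rw [hIs]
    refine subset_antisymm (Set.iUnion₂_subset fun a _ => ?_) fun z hz => ?_
    · rw [support_ptIdeal]; exact hGsub _ a.2
    · obtain ⟨y, hy, hyz⟩ := hgen z hz
      exact Set.mem_biUnion (Finset.mem_univ (⟨y, hy⟩ : G)) (by rw [support_ptIdeal]; exact hyz.mem_closure)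
  set I := ∏ a : G, IntMult.ptIdeal a.1 ^ d a
  have hIi := PicAux.isInvertible_idealMod hI
  have hLC : ∀ C : X.Modules, PicF.IsInvertible C →
      pair k C L = - ∑ a : G, (d a : ℤ) * pair k (ClSub.idealMod (IntMult.ptIdeal a.1)) C := fun C hC => by
    rw [← hIp C hC, pair_inverse k hdim.le hL hLI hC, neg_neg, pair_comm k]
  have hself : pair k L L = ∑ b : G, (d b : ℤ) * ∑ a : G, (d a : ℤ) * Gm a b := by
    have h1 : pair k (ClSub.idealMod I) L = - pair k L L := pair_inverse k hdim.le hL hLI hL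
    rw [hIp L hL] at h1
    rw [← neg_inj, ← h1, ← Finset.sum_neg_distrib]
    refine Finset.sum_congr rfl fun b _ => ?_
    rw [hLC _ (hinv _ b.2)]
    ring
  refine isAmple_of_pair_pos k hdim hreg hL ?_ fun J hJ => ?_
  · rw [hself]
    haveI : Nonempty G := ⟨⟨y₀, hy₀⟩⟩
    exact Finset.sum_pos (fun b _ => mul_pos (by exact_mod_cast hd b) (hdpos b)) Finset.univ_nonempty
  · obtain ⟨ξ, rfl, hξs, hξd⟩ := hJ.exists_pt
    rw [hLC _ (hJ.isInvertible k hdim hreg), neg_lt_zero]
    by_cases hξ : ξ ∈ U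
    · have hξc : ¬ IsClosed ({ξ} : Set X) := fun h => by
        have h0 := (Variety2.Dim.height_eq_zero_iff ξ).2 h
        rw [Variety2.Dim.dim_closure_singleton, h0] at hξd
        simp at hξd
      obtain ⟨q, hqξ, hqU⟩ : (closure ({ξ} : Set X) ∩ (U : Set X)ᶜ).Nonempty := by
        by_contra h
        refine hξc (isClosed_singleton_of_closure_subset p hU fun z hz => ?_)
        by_contra hzU
        exact h ⟨z, hz, hzU⟩
      obtain ⟨y, hy, hyq⟩ := hgen q hqU
      refine Finset.sum_pos' (fun a _ => mul_nonneg (Int.natCast_nonneg _)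
        (pair_nonneg_of_ne k hdim hreg (hcG _ a.2) hJ fun e =>
          ((hG _).1 a.2).1 (hpt ((hG _).1 a.2).2 hξd e ▸ hξ))) ⟨⟨y, hy⟩, Finset.mem_univ _, ?_⟩
      exact mul_pos (by exact_mod_cast hd _) (hpos y ξ ((hG _).1 hy).2 hξd (fun e => ((hG _).1 hy).1 (e ▸ hξ))
        ⟨q, hyq.mem_closure, hqξ⟩)
    · exact hdpos ⟨ξ, (hG ξ).2 ⟨hξ, hξd⟩⟩

end Groth.AffineDiv
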