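import Groth.Agent.AffineDiv.FundCycle
import Groth.Agent.S1520

/-!
# Sections of a line bundle of nonpositive degrees on a numerically connected divisor
-/

universe u

open CategoryTheory CategoryTheory.Limits AlgebraicGeometry TopologicalSpace
open Groth.DerivedCoh.KFlat

namespace Groth.AffineDiv

open Groth.Inter Groth.SurfNum Groth.PicAux

theorem surjective_of_cyclic {R : Type*} [CommRing R] [IsLocalRing R] {M N W : Type*} [AddCommGroup M]
    [Module R M] [AddCommGroup N] [Module R N] [AddCommGroup W] [Module R W] (φ : M →ₗ[R] N)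
    (ν : N →ₗ[R] W) (m : M) (g : N) (hg : ∀ z, ∃ r : R, z = r • g) (w : W) (hw : ∀ z, ∃ r : R, z = r • w)
    (hw0 : w ≠ 0) (hv : ν (φ m) = w) : Function.Surjective φ := by
  obtain ⟨r, hr⟩ := hg (φ m)
  have hru : IsUnit r := by
    by_contra hru
    obtain ⟨a, ha⟩ := hw (ν g)
    rw [hr, map_smul, ha, smul_smul] at hv
    have h1 : (1 - r * a) • w = 0 := by rw [sub_smul, one_smul, hv, sub_self]
    exact hw0 ((IsLocalRing.isUnit_one_sub_self_of_mem_nonunits _
      fun h => hru (isUnit_of_mul_isUnit_left h)).smul_eq_zero.1 h1)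
  intro z
  obtain ⟨a, rfl⟩ := hg z
  obtain ⟨r', hr'⟩ := hru.exists_left_inv
  exact ⟨(a * r') • m, by rw [map_smul, hr, smul_smul, mul_assoc, hr', mul_one]⟩

variable {X : Scheme.{u}} (k : Type u) [Field k] [X.Over (Spec (CommRingCat.of k))]
  [IsProper (X ↘ Spec (CommRingCat.of k))]

attribute [local instance] EulerDeg.secModule

omit [IsProper (X ↘ Spec (CommRingCat.of k))] in
theorem injective_app_top {M N : X.Modules} (φ : M ⟶ N)
    (h : Function.Injective (EulerDeg.hMap k φ 0)) : Function.Injective (φ.app ⊤) := by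
  intro a b hab
  have key : ∀ c, EulerDeg.h0Equiv k N (EulerDeg.hMap k φ 0 ((EulerDeg.h0Equiv k M).symm c)) = φ.app ⊤ c :=
    fun c => by
      have h2 := Sheaf.H.equiv₀_naturality (hT := (isTerminalTop : IsTerminal (⊤ : Opens X)))
        (f := EulerDeg.abMap φ) ((EulerDeg.h0Equiv k M).symm c)
      rw [← EulerDeg.hMap_apply k φ 0 ((EulerDeg.h0Equiv k M).symm c)] at h2
      change φ.app ⊤ ((EulerDeg.h0Equiv k M) ((EulerDeg.h0Equiv k M).symm c)) =
        (EulerDeg.h0Equiv k N) _ at h2
      rw [LinearEquiv.apply_symm_apply] at h2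
      exact h2.symm
  refine (EulerDeg.h0Equiv k M).symm.injective (h ((EulerDeg.h0Equiv k N).injective ?_))
  rw [key, key, hab]

omit k in
/-- The morphism from the structure sheaf of a closed subscheme given by a section of a twist. -/
theorem exists_sectionMap (D : X.IdealSheafData) {M : X.Modules} (hM : PicF.IsInvertible M)
    (s : Γ(CohB1.tensorMod (ClSub.quotMod D) M, (⊤ : X.Opens))) :
    ∃ (ψ : ClSub.quotMod D ⟶ CohB1.tensorMod (ClSub.quotMod D) M) (L : D.subscheme.Modules)
      (e : CohB1.tensorMod (ClSub.quotMod D) M ≅ (Coh.push D.subschemeι).obj L)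
      (t : Γ(L, (⊤ : D.subscheme.Opens))), PicF.IsInvertible L ∧
      t = e.hom.app ⊤ s ∧ ψ = (Coh.push D.subschemeι).map (homOfSection t) ≫ e.inv ∧
      ψ.app ⊤ ((ClSub.toSubscheme D).app ⊤ (oneSec X ⊤)) = s := by
  let ι := D.subschemeι
  let e : CohB1.tensorMod (ClSub.quotMod D) M ≅ (Coh.push ι).obj ((Scheme.Modules.pullback ι).obj M) :=
    (tensor_comm _ M).some ≪≫ (tensor_push ι hM (Coh.structureModule D.subscheme)).some ≪≫
      (Coh.push ι).mapIso ((tensor_comm _ _).some ≪≫ (tensor_one _).some)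
  let t : Γ((Scheme.Modules.pullback ι).obj M, (⊤ : D.subscheme.Opens)) := e.hom.app ⊤ s
  refine ⟨_, _, e, t, isInvertible_pullback ι hM, rfl, rfl, ?_⟩
  have h1 : (ClSub.toSubscheme D).app ⊤ (oneSec X ⊤) = oneSec D.subscheme ⊤ := map_one (ι.app ⊤).hom
  change e.inv.app ⊤ ((homOfSection t).app ⊤ ((ClSub.toSubscheme D).app ⊤ (oneSec X ⊤))) = s
  rw [h1]
  erw [homOfSection_one]
  change (e.hom ≫ e.inv).app ⊤ s = s
  rw [e.hom_inv_id]
  rfl

variable [AlgebraicGeometry.IsIntegral X] (hdim : topologicalKrullDim X = 2)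

include k hdim

/-- A section nonzero on every curve of the divisor, of nonpositive degree there, trivialises. -/
theorem isIso_of_nonzero_restrict [IsAlgClosed k] {D : X.IdealSheafData} {L : X.Modules}
    (hL : PicF.IsInvertible L) (s : Γ(CohB1.tensorMod (ClSub.quotMod D) L, (⊤ : X.Opens)))
    (hC : ∀ x ∈ D.support, ∃ C : X.IdealSheafData, x ∈ C.support ∧ AlgebraicGeometry.IsIntegral C.subscheme ∧
      topologicalKrullDim (C.support : Set X) = 1 ∧
      Curv2.euler k X (CohB1.tensorMod (ClSub.quotMod C) L) - Curv2.euler k X (ClSub.quotMod C) ≤ 0 ∧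
      ∃ ν : CohB1.tensorMod (ClSub.quotMod D) L ⟶ CohB1.tensorMod (ClSub.quotMod C) L, ν.app ⊤ s ≠ 0) :
    Nonempty (CohB1.tensorMod (ClSub.quotMod D) L ≅ ClSub.quotMod D) := by
  classical
  have hN : IsNoetherian X := Groth.Inter.isNoetherian k
  obtain ⟨ψ, -, -, -, -, -, -, hψ⟩ := exists_sectionMap D hL s
  suffices IsIso ψ from ⟨(asIso ψ).symm⟩
  refine QCohMod.isIso_of_stalk ψ fun x => (ConcreteCategory.isIso_iff_bijective _).2 ?_
  change Function.Bijective ((stk x).map ψ).hom
  let g₁ := quotStalk D x 1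
  have hcyc : ∀ z, ∃ r : X.presheaf.stalk x, z = r • g₁ := fun z => by
    obtain ⟨r, rfl⟩ := quotStalk_surjective D x z
    exact ⟨r, by rw [← map_smul, smul_eq_mul, mul_one]⟩
  obtain ⟨E⟩ := exists_stalk_equiv_twist hL (ClSub.quotMod D) x
  let c := ((stk x).mapIso (tensor_comm L (ClSub.quotMod D)).some).toLinearEquiv
  let g := c (E g₁)
  have hcycV : ∀ z, ∃ r : X.presheaf.stalk x, z = r • g := fun z => by
    obtain ⟨r, hr⟩ := hcyc (E.symm (c.symm z))
    exact ⟨r, (c.apply_symm_apply z).symm.trans ((congrArg c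
      (((E.apply_symm_apply _).symm.trans (congrArg E hr)).trans (E.map_smul r g₁))).trans (c.map_smul r _))⟩
  have hsurj : Function.Surjective ((stk x).map ψ).hom := by
    by_cases hxD : x ∈ D.support
    swap
    · have h1 : g₁ = 0 := by
        have : stalkIdeal D x = ⊤ := by
          by_contra h
          exact hxD ((stalkIdeal_ne_top_iff D x).1 h)
        exact (Ideal.eq_top_iff_one _).1 this
      intro z
      obtain ⟨a, rfl⟩ := hcycV z
      have hg : g = 0 := (congrArg c ((congrArg E h1).trans E.map_zero)).trans c.map_zero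
      exact ⟨0, (map_zero _).trans (by rw [hg, smul_zero])⟩
    obtain ⟨C, hxC, hCi, hCd, hdeg, ν, hν⟩ := hC x hxD
    obtain ⟨θ, LC, e, t, hLC, ht, hθdef, hθ⟩ := exists_sectionMap C hL (ν.app ⊤ s)
    haveI := hCi
    letI : C.subscheme.Over (Spec (CommRingCat.of k)) := ⟨C.subschemeι ≫ (X ↘ Spec (CommRingCat.of k))⟩
    haveI : IsProper (C.subscheme ↘ Spec (CommRingCat.of k)) :=
      inferInstanceAs (IsProper (C.subschemeι ≫ (X ↘ Spec (CommRingCat.of k))))
    have hdimC : topologicalKrullDim C.subscheme = 1 := by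
      have hh := C.subschemeι.isClosedEmbedding.toIsEmbedding.toHomeomorph
      rw [IsHomeomorph.topologicalKrullDim_eq _ hh.isHomeomorph, C.range_subschemeι]
      exact hCd
    have ht0 : homOfSection t ≠ 0 := fun h => hν (by
      rw [← hθ, hθdef, h, Functor.map_zero, zero_comp]; rfl)
    have hiso : IsIso (homOfSection t) := by
      refine (EulerDeg.deg_le_and_isIso (EulerDeg.isInvertible_structureModule _) hLC ht0 k hdimC.le).2 ?_
      rw [EulerDeg.deg_structure, Curv2.deg]
      rw [EulerDeg.euler_congr k e, euler_push k C.subschemeι rfl,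
        show ClSub.quotMod C = (Coh.push C.subschemeι).obj (Coh.structureModule C.subscheme) from rfl,
        euler_push k C.subschemeι rfl] at hdeg
      push_cast
      linarith
    have hθi : IsIso θ := by rw [hθdef]; infer_instance
    have hθs : Function.Bijective ((stk x).map θ).hom :=
      ((stk x).mapIso (asIso θ)).toLinearEquiv.bijective
    have hv : ((stk x).map ν).hom (((stk x).map ψ).hom g₁) = ((stk x).map θ).hom (quotStalk C x 1) := by
      have e1 : ∀ D' : X.IdealSheafData, quotStalk D' x 1 =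
          QCohMod.germ (ClSub.quotMod D') x (U := ⊤) trivial ((ClSub.toSubscheme D').app ⊤ (oneSec X ⊤)) :=
        fun D' => by
          rw [← map_one (X.presheaf.germ ⊤ x trivial).hom, quotStalk_germ]; rfl
      simp only [g₁, e1]
      refine (congrArg ((stk x).map ν).hom (DerSch.stalkFunctor_map_germ x ψ ⊤ trivial _)).trans ?_
      refine (DerSch.stalkFunctor_map_germ x ν ⊤ trivial _).trans ?_
      refine Eq.trans ?_ (DerSch.stalkFunctor_map_germ x θ ⊤ trivial _).symm
      rw [hψ, hθ]
    have hne : ((stk x).map θ).hom (quotStalk C x 1) ≠ 0 := fun h => by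
      have h1 : quotStalk C x 1 = 0 := hθs.1 (h.trans (map_zero _).symm)
      have : stalkIdeal C x = ⊤ := (Ideal.eq_top_iff_one _).2 h1
      exact (stalkIdeal_ne_top_iff C x).2 hxC this
    refine surjective_of_cyclic ((stk x).map ψ).hom ((stk x).map ν).hom g₁ g hcycV _ (fun z => ?_) hne hv
    obtain ⟨w, rfl⟩ := hθs.2 z
    obtain ⟨a, rfl⟩ := quotStalk_surjective C x w
    exact ⟨a, (congrArg ((stk x).map θ).hom ((congrArg (quotStalk C x) (mul_one a).symm).trans
      ((quotStalk C x).map_smul a 1))).trans (LinearMap.map_smul ((stk x).map θ).hom a _)⟩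
  refine ⟨?_, hsurj⟩
  have hfin : Module.Finite (X.presheaf.stalk x) ((ClSub.quotMod D).presheaf.stalk x) :=
    Module.Finite.of_surjective (quotStalk D x) (quotStalk_surjective D x)
  have h := OrzechProperty.injective_of_surjective_endomorphism
    ((E.symm.toLinearMap ∘ₗ c.symm.toLinearMap) ∘ₗ ((stk x).map ψ).hom)
    ((E.symm.surjective.comp c.symm.surjective).comp hsurj)
  exact fun a b hab => h (congrArg (fun z => E.symm (c.symm z)) hab)

section Config

variable [IsAlgClosed k] {ι : Type} [Fintype ι] [DecidableEq ι] (C : ι → X.IdealSheafData)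
  (hC : ∀ i, BlowUp.IsEffCartierIdeal (C i)) (hint : ∀ i, AlgebraicGeometry.IsIntegral (C i).subscheme)
  (hd : ∀ i, topologicalKrullDim ((C i).support : Set X) ≤ 1)
  {a : ι → ℕ} (hnc : ∀ b c : ι → ℕ, b ≠ 0 → c ≠ 0 → b + c = a →
    0 < pair k (ClSub.idealMod (∏ i, C i ^ b i)) (ClSub.idealMod (∏ i, C i ^ c i)))
  {L : X.Modules} (hL : PicF.IsInvertible L) (hLC : ∀ i, 0 < a i → 0 ≤ pair k (ClSub.idealMod (C i)) L)

include hC hint hd hnc hL hLC

/-- No sections of `L(-b)` on the complementary divisor of a positive part `b`. -/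
theorem subsingleton_h0_complement (c : ι → ℕ) : ∀ b : ι → ℕ, b + c = a → b ≠ 0 →
    Subsingleton (Coh.HH X (CohB1.tensorMod (ClSub.quotMod (∏ i, C i ^ c i))
      (CohB1.tensorMod L (ClSub.idealMod (∏ i, C i ^ b i)))) 0) := by
  have hN : IsNoetherian X := Groth.Inter.isNoetherian k
  have hI : ∀ b : ι → ℕ, PicF.IsInvertible (ClSub.idealMod (∏ i, C i ^ b i)) :=
    fun b => isInvertible_idealMod (isEffCartier_prodPow C hC b)
  induction hn : ∑ i, c i using Nat.strong_induction_on generalizing c with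
  | _ n ih =>
    subst hn
    intro b hbc hb
    rcases eq_or_ne c 0 with rfl | hc
    · simp only [Pi.zero_apply, pow_zero, Finset.prod_const_one]
      rw [Scheme.IdealSheafData.one_eq_top]
      obtain ⟨hq, hsup⟩ := support_quotMod k (⊤ : X.IdealSheafData)
      have hM := isInvertible_tensorMod hL (hI b)
      have hsub : CohB1.support (CohB1.tensorMod (CohB1.tensorMod L (ClSub.idealMod (∏ i, C i ^ b i)))
          (ClSub.quotMod (⊤ : X.IdealSheafData))) = ∅ :=
        Set.subset_empty_iff.1 ((support_twist_subset _ _).trans (hsup.le.trans (by simp)))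
      haveI := subsingleton_HH_of_support_empty k (isCoh_twist hM hq) hsub 0
      exact (EulerDeg.hEquiv k (tensor_comm _ _).some 0).toEquiv.subsingleton
    set M := CohB1.tensorMod L (ClSub.idealMod (∏ i, C i ^ b i))
    have hM : PicF.IsInvertible M := isInvertible_tensorMod hL (hI b)
    by_contra hns
    rw [not_subsingleton_iff_nontrivial] at hns
    have hdeg : ∀ i, 0 < c i → pair k (ClSub.idealMod (C i)) M ≤ 0 := by
      intro i hi
      set c' : ι → ℕ := c - Pi.single i 1
      have hcc : c = Pi.single i 1 + c' := funext fun j => by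
        rcases eq_or_ne j i with rfl | h
        · simp only [c', Pi.add_apply, Pi.sub_apply, Pi.single_eq_same]; omega
        · simp [c', h]
      obtain ⟨S, hS, ⟨e₁⟩, ⟨e₂⟩, ⟨e₃⟩⟩ :=
        exists_twist_seq k hdim (hC i) (isEffCartier_prodPow C hC c') hM
      have hlt : ∑ j, c' j < ∑ j, c j := Finset.sum_lt_sum (fun j _ => Nat.sub_le _ _)
        ⟨i, Finset.mem_univ _, by simp only [c', Pi.sub_apply, Pi.single_eq_same]; omega⟩
      have hsingle : (∏ j, C j ^ (Pi.single i 1 : ι → ℕ) j) = C i := by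
        rw [Finset.prod_eq_single i (fun j _ hj => by simp [hj]) (fun h => absurd (Finset.mem_univ _) h),
          Pi.single_eq_same, pow_one]
      haveI := ih _ hlt c' rfl (b + Pi.single i 1) (by rw [add_assoc, ← hcc, hbc])
        (fun e => by simpa using congrFun e i)
      have e : CohB1.tensorMod M (ClSub.idealMod (C i)) ≅
          CohB1.tensorMod L (ClSub.idealMod (∏ j, C j ^ (b + Pi.single i 1 : ι → ℕ) j)) :=
        (tensor_assoc L _ _).some ≪≫ (tensor_congr ⟨Iso.refl L⟩
          (prodPow_add C b (Pi.single i 1) ▸ hsingle.symm ▸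
            PicAux.idealMod_mul (isEffCartier_prodPow C hC b) (hC i))).some
      haveI : Subsingleton (Coh.HH X S.X₁ 0) :=
        (EulerDeg.hEquiv k (e₁ ≪≫ (tensor_congr ⟨Iso.refl _⟩ ⟨e⟩).some) 0).toEquiv.subsingleton
      have hJ : (∏ j, C j ^ c j) = C i * ∏ j, C j ^ c' j := by
        conv_lhs => rw [hcc]
        rw [prodPow_add C, hsingle]
      haveI : Nontrivial (Coh.HH X S.X₂ 0) := by
        rw [hJ] at hns
        exact (EulerDeg.hEquiv k e₂ 0).toEquiv.nontrivial
      have hinj : Function.Injective (EulerDeg.hMap k S.g 0) := (injective_iff_map_eq_zero _).2 fun z hz => by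
        obtain ⟨w, rfl⟩ := (EulerDeg.exact_mid k hS 0 z).1 hz
        rw [Subsingleton.elim w 0, map_zero]
      have : Nontrivial (Coh.HH X S.X₃ 0) := hinj.nontrivial
      have hnt : Nontrivial (Coh.HH X (CohB1.tensorMod (ClSub.quotMod (C i)) M) 0) :=
        (EulerDeg.hEquiv k e₃ 0).symm.toEquiv.nontrivial
      haveI := hint i
      rcases h0_curve_le k (hd i) hM with h | h
      · rw [deg_eq k (hC i) hM] at h
        haveI : Module.Finite k (Coh.HH X (CohB1.tensorMod (ClSub.quotMod (C i)) M) 0) :=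
          (finCoh k (QCohMod.isCoh_of_iso (tensor_comm _ _).some
            (isCoh_twist hM (support_quotMod k (C i)).1))).finite 0
        have h1 : 0 < Module.finrank k (Coh.HH X (CohB1.tensorMod (ClSub.quotMod (C i)) M) 0) :=
          Module.finrank_pos
        omega
      · exact absurd hnt (not_nontrivial_iff_subsingleton.2 h)
    have hle : pair k (ClSub.idealMod (∏ i, C i ^ c i)) M ≤ 0 := by
      rw [pair_prodPow k hdim C hC c hM]
      refine Finset.sum_nonpos fun i _ => ?_
      rcases Nat.eq_zero_or_pos (c i) with h | h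
      · simp [h]
      · exact mul_nonpos_of_nonneg_of_nonpos (Int.natCast_nonneg _) (hdeg i h)
    refine absurd hle (not_le.2 ?_)
    rw [pair_comm k, pair_tensor k hdim.le hL (hI b) (hI c), pair_comm k L, pair_prodPow k hdim C hC c hL]
    refine add_pos_of_nonneg_of_pos (Finset.sum_nonneg fun i _ => ?_) (hnc b c hb hc hbc)
    rcases Nat.eq_zero_or_pos (c i) with h | h
    · simp [h]
    · exact mul_nonneg (Int.natCast_nonneg _) (hLC i (by rw [← hbc, Pi.add_apply]; omega))

/-- Restriction of sections to a component is injective. -/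
theorem exists_injective_restrict {i : ι} (hi : 0 < a i) :
    ∃ ν : CohB1.tensorMod (ClSub.quotMod (∏ j, C j ^ a j)) L ⟶ CohB1.tensorMod (ClSub.quotMod (C i)) L,
      Function.Injective (EulerDeg.hMap k ν 0) := by
  set c : ι → ℕ := a - Pi.single i 1
  have hac : Pi.single i 1 + c = a := funext fun j => by
    rcases eq_or_ne j i with rfl | h
    · simp only [c, Pi.add_apply, Pi.sub_apply, Pi.single_eq_same]; omega
    · simp [c, h]
  have hsingle : (∏ j, C j ^ (Pi.single i 1 : ι → ℕ) j) = C i := by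
    rw [Finset.prod_eq_single i (fun j _ hj => by simp [hj]) (fun h => absurd (Finset.mem_univ _) h),
      Pi.single_eq_same, pow_one]
  have h0 := subsingleton_h0_complement k hdim C hC hint hd hnc hL hLC c (Pi.single i 1) hac (by simp)
  rw [hsingle] at h0
  obtain ⟨S, hS, ⟨e₁⟩, e₂, ⟨e₃⟩⟩ := exists_twist_seq k hdim (hC i) (isEffCartier_prodPow C hC c) hL
  have hJ : C i * (∏ j, C j ^ c j) = ∏ j, C j ^ a j := by
    rw [← hac, prodPow_add C, hsingle]
  rw [hJ] at e₂
  obtain ⟨e₂⟩ := e₂
  haveI : Subsingleton (Coh.HH X S.X₁ 0) := (EulerDeg.hEquiv k e₁ 0).toEquiv.subsingleton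
  refine ⟨e₂.inv ≫ S.g ≫ e₃.hom, ?_⟩
  rw [EulerDeg.hMap_comp, EulerDeg.hMap_comp, LinearMap.coe_comp, LinearMap.coe_comp]
  refine ((EulerDeg.hEquiv k e₃ 0).injective.comp ?_).comp (EulerDeg.hEquiv k e₂.symm 0).injective
  exact (injective_iff_map_eq_zero _).2 fun z hz => by
    obtain ⟨w, rfl⟩ := (EulerDeg.exact_mid k hS 0 z).1 hz
    rw [Subsingleton.elim w 0, map_zero]

/-- Ramanujam's lemma. -/
theorem finrank_h0_le_one_of_numConnected (ha : a ≠ 0) (hd1 : ∀ i, topologicalKrullDim ((C i).support : Set X) = 1) :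
    Module.finrank k (Coh.HH X (CohB1.tensorMod (ClSub.quotMod (∏ i, C i ^ a i)) L) 0) ≤ 1 ∧
      (Module.finrank k (Coh.HH X (CohB1.tensorMod (ClSub.quotMod (∏ i, C i ^ a i)) L) 0) = 1 →
        Nonempty (CohB1.tensorMod (ClSub.quotMod (∏ i, C i ^ a i)) L ≅ ClSub.quotMod (∏ i, C i ^ a i))) := by
  have hN : IsNoetherian X := Groth.Inter.isNoetherian k
  refine ⟨?_, fun h1 => ?_⟩
  · obtain ⟨i, hi⟩ := Function.ne_iff.1 ha
    have hi' : 0 < a i := Nat.pos_of_ne_zero hi
    obtain ⟨ν, hν⟩ := exists_injective_restrict k hdim C hC hint hd hnc hL hLC hi'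
    haveI : Module.Finite k (Coh.HH X (CohB1.tensorMod (ClSub.quotMod (C i)) L) 0) :=
      (finCoh k (QCohMod.isCoh_of_iso (tensor_comm _ _).some
        (isCoh_twist hL (support_quotMod k (C i)).1))).finite 0
    refine (LinearMap.finrank_le_finrank_of_injective hν).trans ?_
    haveI := hint i
    rcases h0_curve_le k (hd i) hL with h | h
    · rw [deg_eq k (hC i) hL] at h
      have := hLC i hi'
      omega
    · rw [Module.finrank_zero_of_subsingleton]; exact zero_le_one
  · haveI : Nontrivial (Coh.HH X (CohB1.tensorMod (ClSub.quotMod (∏ i, C i ^ a i)) L) 0) :=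
      Module.nontrivial_of_finrank_pos (R := k) (by rw [h1]; exact one_pos)
    obtain ⟨σ, hσ⟩ := exists_ne (0 : Coh.HH X (CohB1.tensorMod (ClSub.quotMod (∏ i, C i ^ a i)) L) 0)
    let s : Γ(CohB1.tensorMod (ClSub.quotMod (∏ i, C i ^ a i)) L, (⊤ : X.Opens)) := EulerDeg.h0Equiv k _ σ
    have hs : s ≠ 0 := fun h => hσ ((LinearEquiv.map_eq_zero_iff _).1 h)
    refine isIso_of_nonzero_restrict k hdim hL s fun x hx => ?_
    obtain ⟨i, hi, hxi⟩ : ∃ i, 0 < a i ∧ x ∈ (C i).support := by
      refine Finset.prod_induction (fun i => C i ^ a i)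
        (fun I => x ∈ I.support → ∃ i, 0 < a i ∧ x ∈ (C i).support) (fun I J hI hJ h => ?_) (fun h => ?_)
        (fun i _ h => ?_) hx
      · rw [Scheme.IdealSheafData.support_mul] at h
        exact h.elim hI hJ
      · rw [Scheme.IdealSheafData.one_eq_top, Scheme.IdealSheafData.support_top] at h
        exact h.elim
      · rcases Nat.eq_zero_or_pos (a i) with h' | h'
        · rw [h', pow_zero, Scheme.IdealSheafData.one_eq_top, Scheme.IdealSheafData.support_top] at h
          exact h.elim
        · rw [Scheme.IdealSheafData.support_pow _ _ h'.ne'] at h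
          exact ⟨i, h', h⟩
    obtain ⟨ν, hν⟩ := exists_injective_restrict k hdim C hC hint hd hnc hL hLC hi
    refine ⟨C i, hxi, hint i, hd1 i, ?_, ν, fun h => hs (injective_app_top k ν hν ?_)⟩
    · rw [deg_eq k (hC i) hL]; have := hLC i hi; omega
    · rw [h, map_zero]

end Config

end Groth.AffineDiv
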