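import Groth.Agent.SurfNum.Basic
import Groth.Agent.Inter.StalkQuot
import Groth.Agent.PicAux.EffCartierLine
import Groth.Agent.Divisors.EffCartier
import Mathlib.RingTheory.OrderOfVanishing.Noetherian

/-!
# Pairings of divisors built from curves

The pairing with a product of ideals, the strict positivity of the pairing of curves which meet, and
the pairing with the zero scheme of a section through orders of vanishing.
-/

universe u

open CategoryTheory CategoryTheory.Limits AlgebraicGeometry TopologicalSpace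

namespace Groth.AffineDiv

open Groth.Inter Groth.SurfNum

section Matrix

variable {ι : Type*} [Fintype ι]

/-- A nonnegative vector with nonnegative, not all zero, degrees on a connected configuration can be
changed into a positive one with positive degrees. -/
theorem exists_pos_combination (G : ι → ι → ℤ) (hoff : ∀ i j, i ≠ j → 0 ≤ G i j)
    (hcon : ∀ S : Finset ι, S.Nonempty → S ≠ Finset.univ → ∃ i ∈ S, ∃ j ∉ S, 0 < G i j)
    (v : ι → ℤ) (hv : ∀ i, 0 ≤ v i) (hge : ∀ j, 0 ≤ ∑ i, v i * G i j)
    (hex : ∃ j, 0 < ∑ i, v i * G i j) :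
    ∃ d : ι → ℕ, (∀ i, 0 < d i) ∧ ∀ j, 0 < ∑ i, (d i : ℤ) * G i j := by
  classical
  let P : (ι → ℤ) → Finset ι := fun w => Finset.univ.filter fun j => 0 < ∑ i, w i * G i j
  obtain ⟨w, ⟨hw, hwge, hwne⟩, hmax⟩ : ∃ w : ι → ℤ,
      ((∀ i, 0 ≤ w i) ∧ (∀ j, 0 ≤ ∑ i, w i * G i j) ∧ (P w).Nonempty) ∧
      ∀ w' : ι → ℤ, ((∀ i, 0 ≤ w' i) ∧ (∀ j, 0 ≤ ∑ i, w' i * G i j) ∧ (P w').Nonempty) →
        (P w').card ≤ (P w).card := by
    let T : Set ℕ := {n | ∃ w : ι → ℤ,
      ((∀ i, 0 ≤ w i) ∧ (∀ j, 0 ≤ ∑ i, w i * G i j) ∧ (P w).Nonempty) ∧ n = (P w).card}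
    have hT : T.Nonempty := by
      obtain ⟨j, hj⟩ := hex
      exact ⟨_, v, ⟨hv, hge, j, Finset.mem_filter.2 ⟨Finset.mem_univ _, hj⟩⟩, rfl⟩
    have hb : BddAbove T := ⟨Fintype.card ι, by rintro n ⟨w, -, rfl⟩; exact (P w).card_le_univ⟩
    obtain ⟨w, hw, he⟩ := Nat.sSup_mem hT hb
    exact ⟨w, hw, fun w' hw' => he ▸ le_csSup hb ⟨w', hw', rfl⟩⟩
  have hall : ∀ j, 0 < ∑ i, w i * G i j := by
    by_contra hcon'
    have hne : P w ≠ Finset.univ := fun e => hcon' fun j => by
      have := e.ge (Finset.mem_univ j)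
      exact (Finset.mem_filter.1 this).2
    obtain ⟨i, hi, j, hj, hij⟩ := hcon (P w) hwne hne
    have hi' : 0 < ∑ l, w l * G l i := (Finset.mem_filter.1 hi).2
    let N : ℤ := 1 + |G i i|
    let w' : ι → ℤ := fun l => N * w l + if l = i then 1 else 0
    have hsum : ∀ m, ∑ l, w' l * G l m = N * (∑ l, w l * G l m) + G i m := fun m => by
      simp only [w', add_mul, ite_mul, one_mul, zero_mul, Finset.sum_add_distrib, mul_assoc,
        ← Finset.mul_sum, Finset.sum_ite_eq', Finset.mem_univ, if_true]
    have hN : 0 < N := by positivity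
    have hge' : ∀ m, 0 ≤ ∑ l, w' l * G l m := fun m => by
      rw [hsum]
      rcases eq_or_ne i m with rfl | h
      · nlinarith [neg_abs_le (G i i), hi']
      · have := hoff i m h
        have := hwge m
        positivity
    have hsub : insert j (P w) ⊆ P w' := fun m hm => by
      refine Finset.mem_filter.2 ⟨Finset.mem_univ _, ?_⟩
      rw [hsum]
      rcases eq_or_ne i m with rfl | h
      · nlinarith [neg_abs_le (G i i), hi']
      · have h1 := hoff i m h
        rcases Finset.mem_insert.1 hm with rfl | hm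
        · nlinarith [hwge m]
        · have := (Finset.mem_filter.1 hm).2
          nlinarith
    have := hmax w' ⟨fun l => by
      simp only [w']
      have := hw l
      split_ifs <;> positivity, hge', (Finset.insert_nonempty j _).mono hsub⟩
    have h2 := Finset.card_le_card hsub
    rw [Finset.card_insert_of_notMem hj] at h2
    omega
  let N : ℤ := 1 + ∑ j, |∑ i, G i j|
  have hN0 : 0 < N := by positivity
  refine ⟨fun i => (N * w i + 1).toNat, fun i => ?_, fun j => ?_⟩
  · have : 0 ≤ N * w i := mul_nonneg hN0.le (hw i)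
    simp only [Int.lt_toNat]
    push_cast
    linarith
  · have e : ∀ i, ((N * w i + 1).toNat : ℤ) = N * w i + 1 := fun i =>
      Int.toNat_of_nonneg (by have := mul_nonneg hN0.le (hw i); linarith)
    simp only [e, add_mul, one_mul, Finset.sum_add_distrib, mul_assoc, ← Finset.mul_sum]
    have h1 : |∑ i, G i j| ≤ ∑ m, |∑ i, G i m| :=
      Finset.single_le_sum (f := fun m => |∑ i, G i m|) (fun m _ => abs_nonneg _) (Finset.mem_univ j)
    nlinarith [hall j, neg_abs_le (∑ i, G i j)]

end Matrix

variable {X : Scheme.{u}} (k : Type u) [Field k] [X.Over (Spec (CommRingCat.of k))]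
  [IsProper (X ↘ Spec (CommRingCat.of k))]

section Prod

variable (hdim : topologicalKrullDim X ≤ (2 : ℕ))

include hdim

theorem pair_idealMod_mul {I J : X.IdealSheafData} (hI : BlowUp.IsEffCartierIdeal I)
    (hJ : BlowUp.IsEffCartierIdeal J) {L : X.Modules} (hL : PicF.IsInvertible L) :
    pair k (ClSub.idealMod (I * J)) L = pair k (ClSub.idealMod I) L + pair k (ClSub.idealMod J) L := by
  rw [← pair_congr k (PicAux.idealMod_mul hI hJ) L,
    pair_tensor k hdim (PicAux.isInvertible_idealMod hI) (PicAux.isInvertible_idealMod hJ) hL]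

theorem pair_idealMod_pow {I : X.IdealSheafData} (hI : BlowUp.IsEffCartierIdeal I) {L : X.Modules}
    (hL : PicF.IsInvertible L) :
    ∀ n : ℕ, pair k (ClSub.idealMod (I ^ n)) L = n * pair k (ClSub.idealMod I) L
  | 0 => by
    have h1 : BlowUp.IsEffCartierIdeal (1 : X.IdealSheafData) := Divisors.isEffCartierIdeal_top
    have := pair_idealMod_mul k hdim h1 h1 hL
    rw [mul_one] at this
    rw [pow_zero]
    simp only [Nat.cast_zero, zero_mul]
    linarith
  | n + 1 => by
    rw [pow_succ, pair_idealMod_mul k hdim (Divisors.isEffCartierIdeal_pow hI n) hI hL,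
      pair_idealMod_pow hI hL n]
    push_cast
    ring

theorem pair_idealMod_prod {ι : Type*} (D : ι → X.IdealSheafData) (d : ι → ℕ) (s : Finset ι)
    (hD : ∀ i ∈ s, BlowUp.IsEffCartierIdeal (D i)) (hd : ∀ i ∈ s, 0 < d i) :
    BlowUp.IsEffCartierIdeal (∏ i ∈ s, D i ^ d i) ∧
      ((∏ i ∈ s, D i ^ d i).support : Set X) = ⋃ i ∈ s, ((D i).support : Set X) ∧
      ∀ L : X.Modules, PicF.IsInvertible L → pair k (ClSub.idealMod (∏ i ∈ s, D i ^ d i)) L =
        ∑ i ∈ s, (d i : ℤ) * pair k (ClSub.idealMod (D i)) L := by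
  classical
  induction s using Finset.induction_on with
  | empty =>
    refine ⟨by simpa using Divisors.isEffCartierIdeal_top, by simp, fun L hL => ?_⟩
    have := pair_idealMod_pow k hdim (Divisors.isEffCartierIdeal_top (X := X)) hL 0
    rw [pow_zero, Nat.cast_zero, zero_mul] at this
    rw [Finset.prod_empty, Finset.sum_empty]
    exact this
  | @insert i s hi ih =>
    obtain ⟨h1, h2, h3⟩ := ih (fun j hj => hD j (Finset.mem_insert_of_mem hj))
      (fun j hj => hd j (Finset.mem_insert_of_mem hj))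
    have hDi := hD i (Finset.mem_insert_self _ _)
    rw [Finset.prod_insert hi]
    refine ⟨Divisors.isEffCartierIdeal_mul (Divisors.isEffCartierIdeal_pow hDi _) h1, ?_, fun L hL => ?_⟩
    · rw [Scheme.IdealSheafData.support_mul, Scheme.IdealSheafData.support_pow _ _ (hd i
        (Finset.mem_insert_self _ _)).ne', Closeds.coe_sup, h2, Finset.set_biUnion_insert]
    · rw [pair_idealMod_mul k hdim (Divisors.isEffCartierIdeal_pow hDi _) h1 hL,
        pair_idealMod_pow k hdim hDi hL, h3 L hL, Finset.sum_insert hi]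

end Prod

variable [IsIntegral X]

theorem length_stalk_quotMod (D : X.IdealSheafData) (W : X.affineOpens) {y : X} (hy : y ∈ W.1)
    {c : Γ(X, W.1)} (hc : D.ideal W = Ideal.span {c}) :
    Module.length (X.presheaf.stalk y) ((ClSub.quotMod D).presheaf.stalk y) =
      Ring.ord (X.presheaf.stalk y) (X.presheaf.germ W.1 y hy c) := by
  have h1 : stalkIdeal D y = Ideal.span {X.presheaf.germ W.1 y hy c} := by
    rw [stalkIdeal_eq_map D W hy, hc, Ideal.map_span, Set.image_singleton]
  rw [Ring.ord, ← h1]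
  exact (((quotStalk D y).quotKerEquivOfSurjective (quotStalk_surjective D y)).length_eq).symm

include k in
/-- The divisor of an effective Cartier divisor, on any finite set of curves carrying it. -/
theorem pair_eq_sum (hdim : topologicalKrullDim X = 2) {D : X.IdealSheafData}
    (hD : BlowUp.IsEffCartierIdeal D) (T : Finset X)
    (hT : ∀ y ∈ T, topologicalKrullDim (closure ({y} : Set X)) = ((1 : ℕ) : WithBot ℕ∞))
    (hcov : ∀ y ∈ D.support, topologicalKrullDim (closure ({y} : Set X)) = ((1 : ℕ) : WithBot ℕ∞) → y ∈ T)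
    {L : X.Modules} (hL : PicF.IsInvertible L) :
    pair k (ClSub.idealMod D) L = ∑ y ∈ T,
      ((Module.length (X.presheaf.stalk y) ((ClSub.quotMod D).presheaf.stalk y)).toNat : ℤ) *
        delta k [L] (ClSub.quotMod (IntMult.ptIdeal y)) := by
  classical
  have hN : IsNoetherian X := Groth.Inter.isNoetherian k
  obtain ⟨hc, hsup⟩ := support_quotMod k D
  have hdS : topologicalKrullDim (CohB1.support (ClSub.quotMod D)) ≤ ((1 : ℕ) : WithBot ℕ∞) := by
    rw [hsup]; exact dim_support_le_one k hdim hD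
  rw [pair_idealMod k hD hL, delta_eq_sum_length k (by simpa using hL) hc (by simpa using hdS)
    (T.filter fun y => y ∈ D.support) (fun ξ => ?_)]
  · refine (Finset.sum_subset (Finset.filter_subset _ T) fun y hy hy' => ?_).trans
      (Finset.sum_congr rfl fun y _ => rfl)
    have : y ∉ CohB1.support (ClSub.quotMod D) := fun h =>
      hy' (Finset.mem_filter.2 ⟨hy, hsup.le h⟩)
    simp only [CohB1.support, Set.mem_ofPred_eq, not_not] at this
    simp [Module.length_eq_zero_iff.2 this]
  · simp only [Finset.mem_filter, List.length_cons, List.length_nil, zero_add]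
    exact ⟨fun h => ⟨hsup.ge h.2, hT ξ h.1⟩, fun h => ⟨hcov ξ (hsup.le h.1) h.2, hsup.le h.1⟩⟩

variable (hdim : topologicalKrullDim X = 2) (hreg : ∀ x : X, IsRegularLocalRing (X.presheaf.stalk x))

include k hdim hreg

/-- Curves which meet pair positively. -/
theorem pair_pos_of_meet {I J : X.IdealSheafData} (hI : IsCurve I) (hJ : IsCurve J) (hne : I ≠ J)
    (hmeet : ((I.support : Set X) ∩ J.support).Nonempty) :
    0 < pair k (ClSub.idealMod I) (ClSub.idealMod J) := by
  have hN : IsNoetherian X := Groth.Inter.isNoetherian k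
  obtain ⟨ξ, -, hs, hd⟩ := hJ.exists_pt
  have hp : ∀ Z ∈ irreducibleComponents (X : Type u), topologicalKrullDim Z = 2 := fun Z hZ => by
    obtain rfl : Z = Set.univ := by simpa [irreducibleComponents_eq_singleton] using hZ
    rw [← hdim]
    exact IsHomeomorph.topologicalKrullDim_eq _ (Homeomorph.Set.univ X).isHomeomorph
  have hCM : ∀ x : X, LocCoh.IsCohenMacaulayLocalRing (X.presheaf.stalk x) := fun x => by
    have := hreg x
    exact Groth.Calg4.isCohenMacaulayLocalRing_of_isRegularLocalRing _
  have hfin : ((I ⊔ J).support : Set X).Finite := by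
    refine finite_of_dim_le_zero (I ⊔ J).support.isClosed (lt_natCast_succ_iff.1 ?_)
    have hsub : ((I ⊔ J).support : Set X) ⊆ closure {ξ} := by
      rw [← hs]; exact Scheme.IdealSheafData.support_antitone le_sup_right
    refine lt_of_lt_of_eq (LocCohTransform.topologicalKrullDim_lt_of_ssubset hsub (fun h' => ?_)
      (I ⊔ J).support.isClosed isClosed_closure isIrreducible_singleton.closure ?_) hd
    · exact hne (hJ.eq_of_subset hI (hs.le.trans (h'.trans
        (Scheme.IdealSheafData.support_antitone le_sup_left)))).symm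
    · rw [hd]; exact WithBot.coe_lt_coe.2 (ENat.natCast_lt_top _)
  rw [← intNum_eq_pair k hdim.le, intNum_pair_eq_finrank k hp hdim.le hCM I J
    (fun x => hI.isEffCartier k hdim hreg x) (fun x => hJ.isEffCartier k hdim hreg x) hfin]
  obtain ⟨hc, hsup⟩ := support_quotMod k (I ⊔ J)
  have hne' : Nonempty (I ⊔ J).subscheme := by
    have h : ((I ⊔ J).support : Set X).Nonempty := by
      rw [Scheme.IdealSheafData.support_sup]; exact hmeet
    rw [← Scheme.IdealSheafData.range_subschemeι] at h
    obtain ⟨_, z, -⟩ := h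
    exact ⟨z⟩
  have : Nonempty (⊤ : (I ⊔ J).subscheme.Opens) := ⟨⟨hne'.some, trivial⟩⟩
  have : Nontrivial Γ(ClSub.quotMod (I ⊔ J), (⊤ : X.Opens)) :=
    inferInstanceAs (Nontrivial Γ((I ⊔ J).subscheme, ⊤))
  have : Nontrivial (Coh.HH X (ClSub.quotMod (I ⊔ J)) 0) :=
    (EulerDeg.h0Equiv k (ClSub.quotMod (I ⊔ J))).toEquiv.nontrivial
  have : Module.Finite k (Coh.HH X (ClSub.quotMod (I ⊔ J)) 0) := (finCoh k hc).finite 0
  exact_mod_cast Module.finrank_pos (R := k) (M := Coh.HH X (ClSub.quotMod (I ⊔ J)) 0)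

end Groth.AffineDiv
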