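import Groth.Agent.AffineDiv.Pairing
import Groth.Agent.AffineCompl.Main
import Groth.Agent.FlatmorThree.AmpleFamily
import Groth.Agent.PropsBasic.AmpleExtend
import Groth.Agent.RefRank.Gen

/-!
# The polar divisor of a function on an affine open of a regular surface
-/

universe u

open CategoryTheory CategoryTheory.Limits AlgebraicGeometry TopologicalSpace

namespace Groth.AffineDiv

open Groth.Inter Groth.SurfNum Groth.AffineCompl Groth.PicAux Groth.PropsBasic.Ample

variable {X : Scheme.{u}} [AlgebraicGeometry.IsIntegral X]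

theorem homOfSection_ne_zero {M : X.Modules} {b : Γ(M, ⊤)} (hb : b ≠ 0) : homOfSection b ≠ 0 := fun h =>
  hb (by rw [← homOfSection_one b, h]; rfl)

theorem val_homOfSection {M : X.Modules} (b : Γ(M, ⊤)) (W : X.Opens) :
    Variety2.Zero.val M (homOfSection b) W = res M le_top b := by
  rw [Variety2.Zero.val, ← res_app_oneSec (homOfSection b) (le_top : W ≤ ⊤), homOfSection_one]

/-- The orders at a point of a function on `U` extended as a section and of the canonical section. -/
theorem exists_frame_orders {P : X.Modules} (hP : PicF.IsInvertible P) (T : Γ(P, ⊤))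
    [Nonempty (gloc T)] (f : Γ(X, gloc T)) {N : ℕ} (b : Γ(CohB1.tensorPow P N, ⊤))
    (hb : res _ le_top b = f • powSec (res P (le_top : gloc T ≤ ⊤) T) N) (y : X) :
    ∃ aT ab : X.presheaf.stalk y,
      algebraMap (X.presheaf.stalk y) X.functionField ab =
        X.germToFunctionField (gloc T) f * algebraMap (X.presheaf.stalk y) X.functionField aT ∧
      aT ≠ 0 ∧ (y ∈ gloc T → IsUnit aT) ∧
      Module.length (X.presheaf.stalk y)
        ((ClSub.quotMod (PicF2.zeroScheme _ (homOfSection (powSec T N)))).presheaf.stalk y) =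
          Ring.ord (X.presheaf.stalk y) aT ∧
      Module.length (X.presheaf.stalk y)
        ((ClSub.quotMod (PicF2.zeroScheme _ (homOfSection b))).presheaf.stalk y) =
          Ring.ord (X.presheaf.stalk y) ab := by
  obtain ⟨W', e', hW', hyW', he'⟩ : ∃ (W : X.Opens) (e : Γ(P, W)), IsAffineOpen W ∧ y ∈ W ∧ Gen P W e := by
    obtain ⟨U, e, hU, hy, he, -⟩ := PropsBasic.Ample.exists_gen_cover hP
    exact ⟨U y, e y, hU y, hy y, he y⟩
  obtain ⟨c₀, hc₀⟩ := he'.exists_coeff le_rfl (res P (le_top : W' ≤ ⊤) T)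
  rw [res_self] at hc₀
  have heN := he'.pow N
  obtain ⟨cb, hcb⟩ := heN.exists_coeff le_rfl (res _ (le_top : W' ≤ ⊤) b)
  rw [res_self] at hcb
  have hTN : res _ (le_top : W' ≤ ⊤) (powSec T N) = c₀ ^ N • powSec e' N := by
    rw [res_powSec, hc₀, powSec_smul]
  haveI : Nonempty W' := ⟨⟨y, hyW'⟩⟩
  have hη : ∀ (O : X.Opens) [Nonempty O], genericPoint X ∈ O := fun O hO =>
    ((genericPoint_spec X).mem_open_set_iff O.isOpen).mpr (by simpa using hO)
  haveI : Nonempty (gloc T ⊓ W' : X.Opens) := ⟨⟨genericPoint X, hη _, hη _⟩⟩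
  have hrel : resX X (inf_le_right : gloc T ⊓ W' ≤ W') cb =
      resX X (inf_le_left : gloc T ⊓ W' ≤ gloc T) f * resX X inf_le_right c₀ ^ N := by
    refine heN.smul_inj inf_le_right ?_
    have h1 := congrArg (res _ (inf_le_right : gloc T ⊓ W' ≤ W')) hcb
    have h2 := congrArg (res _ (inf_le_left : gloc T ⊓ W' ≤ gloc T)) hb
    have h3 := congrArg (res P (inf_le_right : gloc T ⊓ W' ≤ W')) hc₀
    simp only [res_res, res_smul, res_powSec] at h1 h2 h3
    rw [h3, powSec_smul, ← mul_smul] at h2
    rw [res_powSec, ← h1, h2]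
  have hres : ∀ {O O' : X.Opens} [Nonempty O] [Nonempty O'] (h : O' ≤ O) (a : Γ(X, O)),
      X.germToFunctionField O' (resX X h a) = X.germToFunctionField O a := fun h a =>
    X.presheaf.germ_res_apply (homOfLE h) _ _ a
  have key := congrArg (X.germToFunctionField (gloc T ⊓ W' : X.Opens)) hrel
  rw [map_mul, map_pow, hres, hres, hres] at key
  have hcpos : X.germToFunctionField W' c₀ ≠ 0 := fun h => by
    have h0 : c₀ = 0 := Scheme.germToFunctionField_injective X W' (h.trans (map_zero _).symm)
    have := gloc_inf_eq_basicOpen he' hc₀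
    rw [h0, Scheme.basicOpen_zero] at this
    exact this.le ⟨hη (gloc T), hη W'⟩
  refine ⟨X.presheaf.germ W' y hyW' (c₀ ^ N), X.presheaf.germ W' y hyW' cb, ?_, ?_, ?_, ?_, ?_⟩
  · rw [Scheme.algebraMap_germ_eq_germToFunctionField X hyW' cb,
      Scheme.algebraMap_germ_eq_germToFunctionField X hyW', map_pow, key]
  · intro h
    apply pow_ne_zero N hcpos
    rw [← map_pow, ← Scheme.algebraMap_germ_eq_germToFunctionField X hyW', h, map_zero]
  · intro hy
    rw [map_pow]
    refine IsUnit.pow N ((Scheme.mem_basicOpen X c₀ y hyW').1 ?_)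
    rw [← gloc_inf_eq_basicOpen he' hc₀]
    exact ⟨hy, hyW'⟩
  · exact length_stalk_quotMod _ ⟨W', hW'⟩ hyW' (Variety2.Zero.zeroScheme_ideal_eq_span
      (isInvertible_tensorPow hP N) _ ⟨W', hW'⟩ heN (by rw [val_homOfSection]; exact hTN))
  · exact length_stalk_quotMod _ ⟨W', hW'⟩ hyW' (Variety2.Zero.zeroScheme_ideal_eq_span
      (isInvertible_tensorPow hP N) _ ⟨W', hW'⟩ heN (by rw [val_homOfSection]; exact hcb))

variable (k : Type u) [Field k] [X.Over (Spec (CommRingCat.of k))]
  [IsProper (X ↘ Spec (CommRingCat.of k))]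
  (hdim : topologicalKrullDim X = 2) (hreg : ∀ x : X, IsRegularLocalRing (X.presheaf.stalk x))

include k hdim hreg

/-- A section with a pole along every component of the complement gives a positive combination of
them which is numerically effective and meets a curve outside. -/
theorem exists_polar {P : X.Modules} (hP : PicF.IsInvertible P) (T : Γ(P, ⊤)) [Nonempty (gloc T)]
    (f : Γ(X, gloc T)) {w : X} (hw : w ∈ gloc T)
    (hwd : topologicalKrullDim (closure ({w} : Set X)) = ((1 : ℕ) : WithBot ℕ∞))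
    (hfw : w ∉ X.basicOpen f) (hf0 : f ≠ 0) (G : Finset X)
    (hG : ∀ y, y ∈ G ↔ y ∉ gloc T ∧ topologicalKrullDim (closure ({y} : Set X)) = ((1 : ℕ) : WithBot ℕ∞))
    (hpole : ∀ y ∈ G, X.germToFunctionField (gloc T) f ∉ Reg y) :
    ∃ (v : X → ℤ) (s : Finset X) (m : X → ℕ), (∀ y ∈ G, 0 < v y) ∧ w ∈ s ∧ 0 < m w ∧
      (∀ y ∈ s, y ∈ gloc T ∧ topologicalKrullDim (closure ({y} : Set X)) = ((1 : ℕ) : WithBot ℕ∞)) ∧
      ∀ L : X.Modules, PicF.IsInvertible L →
        ∑ y ∈ G, v y * delta k [L] (ClSub.quotMod (IntMult.ptIdeal y)) =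
          ∑ y ∈ s, (m y : ℤ) * delta k [L] (ClSub.quotMod (IntMult.ptIdeal y)) := by
  classical
  have hN : IsNoetherian X := Groth.Inter.isNoetherian k
  haveI : QuasiSeparatedSpace X := inferInstance
  obtain ⟨N, b, hb⟩ := exists_extend hP T f
  choose aT ab hrel haT0 haTu hlT hlb using exists_frame_orders hP T f b hb
  have hM := isInvertible_tensorPow hP N
  have hη : genericPoint X ∈ gloc T :=
    ((genericPoint_spec X).mem_open_set_iff (gloc T).isOpen).mpr (by simpa using ‹Nonempty (gloc T)›)
  have hF0 : X.germToFunctionField (gloc T) f ≠ 0 := fun h =>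
    hf0 (Scheme.germToFunctionField_injective X _ (h.trans (map_zero _).symm))
  have hgen : Gen _ (gloc T) (powSec (res P (le_top : gloc T ≤ ⊤) T) N) := (gen_gloc T le_rfl).pow N
  have hb0 : b ≠ 0 := fun h => by
    refine hf0 (hgen.smul_inj le_rfl ?_)
    rw [h, res_zero] at hb
    rw [res_self, ← hb, zero_smul]
  have hT0 : powSec T N ≠ 0 := fun h => by
    have h1 : (1 : Γ(X, gloc T)) = 0 := hgen.smul_inj le_rfl (by
      rw [res_self, ← res_powSec, h, res_zero, smul_zero, smul_zero])
    exact one_ne_zero h1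
  set DT := PicF2.zeroScheme _ (homOfSection (powSec T N))
  set Db := PicF2.zeroScheme _ (homOfSection b)
  have rT := regularSection_of_ne_zero hM (homOfSection_ne_zero hT0)
  have rb := regularSection_of_ne_zero hM (homOfSection_ne_zero hb0)
  have hDT : BlowUp.IsEffCartierIdeal DT := isEffCartierIdeal_zeroScheme hM rT
  have hDb : BlowUp.IsEffCartierIdeal Db := isEffCartierIdeal_zeroScheme hM rb
  let mT : X → ℕ := fun y =>
    (Module.length (X.presheaf.stalk y) ((ClSub.quotMod DT).presheaf.stalk y)).toNat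
  let mb : X → ℕ := fun y =>
    (Module.length (X.presheaf.stalk y) ((ClSub.quotMod Db).presheaf.stalk y)).toNat
  have hfin := finite_dim_closure_eq (n := 1) Db.support.isClosed (dim_support_le_one k hdim hDb)
  let s : Finset X := hfin.toFinset.filter (· ∈ gloc T)
  have hK : ∀ y : X, topologicalKrullDim (closure ({y} : Set X)) = ((1 : ℕ) : WithBot ℕ∞) →
      ringKrullDim (X.presheaf.stalk y) = 1 := fun y hd => by
    have h2 := Variety2.Dim.ringKrullDim_stalk_add_height (X ↘ Spec (CommRingCat.of k)) y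
    rw [← Variety2.Dim.dim_closure_singleton, hd, hdim] at h2
    generalize ringKrullDim (X.presheaf.stalk y) = a at h2 ⊢
    cases a with
    | bot => simp at h2
    | coe a =>
      exact congrArg WithBot.some (eq_one_of_add (b := a) (a := 1) (by rw [add_comm]; exact WithBot.coe_inj.1 h2) rfl)
  have hnorm : Pi1.IsNormalScheme X := fun x => by
    haveI := hreg x
    obtain ⟨_, _⟩ := Agent.S2821.result (X.presheaf.stalk x)
    exact ⟨‹_›, inferInstance⟩
  have hsupp : ∀ (D : X.IdealSheafData) (y : X),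
      y ∈ D.support ↔ Module.length (X.presheaf.stalk y) ((ClSub.quotMod D).presheaf.stalk y) ≠ 0 :=
    fun D y => by
      rw [Ne, Module.length_eq_zero_iff,
        ← ((quotStalk D y).quotKerEquivOfSurjective (quotStalk_surjective D y)).toEquiv.subsingleton_congr,
        Submodule.Quotient.subsingleton_iff]
      exact (stalkIdeal_ne_top_iff D y).symm
  have hab0 : ∀ y, ab y ≠ 0 := fun y h => by
    have h2 := hrel y
    rw [h, map_zero, eq_comm, mul_eq_zero] at h2
    exact haT0 y (IsFractionRing.injective (X.presheaf.stalk y) X.functionField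
      ((h2.resolve_left hF0).trans (map_zero _).symm))
  have hmw : w ∈ Db.support := by
    rw [hsupp, hlb w, Ring.ord, Ne, Module.length_eq_zero_iff, Submodule.Quotient.subsingleton_iff,
      Ideal.span_singleton_eq_top]
    intro hu
    refine hfw ((X.mem_basicOpen f w hw).2 (isUnit_of_mul_isUnit_left (y := aT w) ?_))
    convert hu
    apply IsFractionRing.injective (X.presheaf.stalk w) X.functionField
    rw [map_mul, Scheme.algebraMap_germ_eq_germToFunctionField X hw f, hrel w]
  refine ⟨fun y => (mT y : ℤ) - mb y, s, mb, fun y hy => ?_, ?_, ?_, fun y hy => ?_, fun L hL => ?_⟩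
  · obtain ⟨-, hd⟩ := (hG y).1 hy
    haveI := RefRank.isDiscreteValuationRing_stalk hnorm (hK y hd)
    have hp := hpole y hy
    obtain ⟨β, hβ⟩ : (X.germToFunctionField (gloc T) f)⁻¹ ∈ Reg y := by
      rcases ValuationRing.isInteger_or_isInteger (X.presheaf.stalk y) (X.germToFunctionField (gloc T) f) with h | h
      · exact absurd h hp
      · exact h
    have hβu : ¬ IsUnit β := fun hu => by
      obtain ⟨γ, hγ⟩ := hu.exists_right_inv
      refine hp ⟨γ, ?_⟩
      have := congrArg (algebraMap (X.presheaf.stalk y) X.functionField) hγ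
      rw [map_mul, map_one, hβ] at this
      exact (eq_inv_of_mul_eq_one_right this).trans (inv_inv _)
    have heq : aT y = ab y * β := by
      apply IsFractionRing.injective (X.presheaf.stalk y) X.functionField
      rw [map_mul, hrel y, hβ, mul_comm (X.germToFunctionField (gloc T) f), mul_assoc,
        mul_inv_cancel₀ hF0, mul_one]
    have hβ0 : β ≠ 0 := fun h => haT0 y (by rw [heq, h, mul_zero])
    have h1 : mT y = mb y + (Ring.ord (X.presheaf.stalk y) β).toNat := by
      simp only [mT, mb]
      rw [hlT, hlb, heq, Ring.ord_mul _ (mem_nonZeroDivisors_of_ne_zero hβ0),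
        ENat.toNat_add (Ring.ord_ne_top (mem_nonZeroDivisors_of_ne_zero (hab0 y)))
          (Ring.ord_ne_top (mem_nonZeroDivisors_of_ne_zero hβ0))]
    have h2 : 0 < (Ring.ord (X.presheaf.stalk y) β).toNat := by
      refine Nat.pos_of_ne_zero fun h => ?_
      rcases ENat.toNat_eq_zero.1 h with h | h
      · rw [Ring.ord, Module.length_eq_zero_iff, Submodule.Quotient.subsingleton_iff,
          Ideal.span_singleton_eq_top] at h
        exact hβu h
      · exact Ring.ord_ne_top (mem_nonZeroDivisors_of_ne_zero hβ0) h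
    simp only [h1]
    push_cast
    omega
  · exact Finset.mem_filter.2 ⟨hfin.mem_toFinset.2 ⟨hmw, hwd⟩, hw⟩
  · haveI := RefRank.isDiscreteValuationRing_stalk hnorm (hK w hwd)
    refine Nat.pos_of_ne_zero fun h => ?_
    rcases ENat.toNat_eq_zero.1 h with h | h
    · exact (hsupp Db w).1 hmw h
    · rw [hlb] at h
      exact Ring.ord_ne_top (mem_nonZeroDivisors_of_ne_zero (hab0 w)) h
  · obtain ⟨h1, h2⟩ := Finset.mem_filter.1 hy
    exact ⟨h2, (hfin.mem_toFinset.1 h1).2⟩
  · have hdis : Disjoint G s := Finset.disjoint_left.2 fun y hy hy' =>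
      ((hG y).1 hy).1 (Finset.mem_filter.1 hy').2
    have eT := pair_eq_sum k hdim hDT G (fun y hy => ((hG y).1 hy).2) (fun y hy hd => (hG y).2 ⟨fun hyT =>
      (hsupp DT y).1 hy ((hlT y).trans (Ring.ord_of_isUnit (haTu y hyT))), hd⟩) hL
    have eb := pair_eq_sum k hdim hDb (G ∪ s) (fun y hy => (Finset.mem_union.1 hy).elim
      (fun h => ((hG y).1 h).2) fun h => (hfin.mem_toFinset.1 (Finset.mem_filter.1 h).1).2)
      (fun y hy hd => Finset.mem_union.2 (by
        by_cases hyT : y ∈ gloc T
        · exact Or.inr (Finset.mem_filter.2 ⟨hfin.mem_toFinset.2 ⟨hy, hd⟩, hyT⟩)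
        · exact Or.inl ((hG y).2 ⟨hyT, hd⟩))) hL
    have hpp : pair k (ClSub.idealMod DT) L = pair k (ClSub.idealMod Db) L := by
      rw [pair_inverse k hdim.le hM (isInverseOf_zeroScheme hM rT) hL,
        pair_inverse k hdim.le hM (isInverseOf_zeroScheme hM rb) hL]
    rw [eT, eb, Finset.sum_union hdis] at hpp
    simp only [sub_mul, Finset.sum_sub_distrib]
    exact sub_eq_iff_eq_add'.2 hpp

end Groth.AffineDiv
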