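import Groth.Agent.AffineDiv.Poles
import Groth.Agent.FlatmorThree.AffineComplement

/-!
# Principal divisors on a regular proper surface
-/

universe u

open CategoryTheory CategoryTheory.Limits AlgebraicGeometry TopologicalSpace

namespace Groth.AffineDiv

open Groth.Inter Groth.SurfNum Groth.AffineCompl Groth.PicAux Groth.PropsBasic.Ample

/-- A positive vector with nonpositive, not all zero, degrees on a connected configuration makes it
negative definite. -/
theorem negDef_of_connected {ι : Type*} [Fintype ι] (G : ι → ι → ℤ) (hsym : ∀ i j, G i j = G j i)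
    (hoff : ∀ i j, i ≠ j → 0 ≤ G i j)
    (hcon : ∀ S : Finset ι, S.Nonempty → S ≠ Finset.univ → ∃ i ∈ S, ∃ j ∉ S, 0 < G i j)
    (d : ι → ℤ) (hd : ∀ i, 0 < d i) (hle : ∀ j, ∑ i, d i * G i j ≤ 0)
    (hlt : ∃ j, ∑ i, d i * G i j < 0) (a : ι → ℤ) (ha : a ≠ 0) :
    ∑ i, ∑ j, a i * a j * G i j < 0 := by
  classical
  let b : ι → ℚ := fun i => (a i : ℚ) / d i
  have hd' : ∀ i, (0 : ℚ) < d i := fun i => by exact_mod_cast hd i
  have hab : ∀ i, (a i : ℚ) = b i * d i := fun i => (div_mul_cancel₀ _ (hd' i).ne').symm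
  let g : ι → ι → ℚ := fun i j => (d i : ℚ) * d j * G i j
  have hgs : ∀ i j, g i j = g j i := fun i j => by simp only [g, hsym i j]; ring
  have hrow : ∀ j, ∑ i, g i j ≤ 0 := fun j => by
    have : (∑ i, d i * G i j : ℤ) * d j ≤ 0 := mul_nonpos_of_nonpos_of_nonneg (hle j) (hd j).le
    have h' : ((∑ i, d i * G i j : ℤ) : ℚ) * d j ≤ 0 := by exact_mod_cast this
    push_cast at h'
    rw [Finset.sum_mul] at h'
    refine le_of_eq_of_le (Finset.sum_congr rfl fun i _ => ?_) h'
    simp only [g]; ring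
  have hQ : ((∑ i, ∑ j, a i * a j * G i j : ℤ) : ℚ) =
      ∑ j, b j ^ 2 * ∑ i, g i j - (1 / 2) * ∑ i, ∑ j, g i j * (b i - b j) ^ 2 := by
    have e1 : ∑ j, b j ^ 2 * ∑ i, g i j = ∑ i, ∑ j, g i j * b i ^ 2 := by
      refine Finset.sum_congr rfl fun j _ => ?_
      rw [Finset.mul_sum]
      exact Finset.sum_congr rfl fun i _ => by rw [hgs i j]; ring
    have e2 : ∑ i, ∑ j, g i j * b j ^ 2 = ∑ i, ∑ j, g i j * b i ^ 2 := by
      rw [Finset.sum_comm]
      exact Finset.sum_congr rfl fun j _ => Finset.sum_congr rfl fun i _ => by rw [hgs i j]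
    have e3 : ∑ i, ∑ j, g i j * (b i - b j) ^ 2 = ∑ i, ∑ j, g i j * b i ^ 2 + ∑ i, ∑ j, g i j * b j ^ 2
        - 2 * ∑ i, ∑ j, g i j * (b i * b j) := by
      simp only [Finset.mul_sum, ← Finset.sum_add_distrib, ← Finset.sum_sub_distrib]
      exact Finset.sum_congr rfl fun i _ => Finset.sum_congr rfl fun j _ => by ring
    have e4 : ((∑ i, ∑ j, a i * a j * G i j : ℤ) : ℚ) = ∑ i, ∑ j, g i j * (b i * b j) := by
      push_cast
      exact Finset.sum_congr rfl fun i _ => Finset.sum_congr rfl fun j _ => by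
        simp only [hab, g]; ring
    rw [e1, e3, e2, e4]
    ring
  have hnn : ∀ i j, 0 ≤ g i j * (b i - b j) ^ 2 := fun i j => by
    rcases eq_or_ne i j with rfl | h
    · simp
    · have : (0 : ℚ) ≤ G i j := by exact_mod_cast hoff i j h
      have := hd' i
      have := hd' j
      positivity
  by_contra hcon'
  have hge : (0 : ℚ) ≤ ((∑ i, ∑ j, a i * a j * G i j : ℤ) : ℚ) := by exact_mod_cast not_lt.1 hcon'
  have h1 : ∑ j, b j ^ 2 * ∑ i, g i j ≤ 0 :=
    Finset.sum_nonpos fun j _ => mul_nonpos_of_nonneg_of_nonpos (sq_nonneg _) (hrow j)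
  have h2 : 0 ≤ ∑ i, ∑ j, g i j * (b i - b j) ^ 2 :=
    Finset.sum_nonneg fun i _ => Finset.sum_nonneg fun j _ => hnn i j
  rw [hQ] at hge
  have h3 : ∀ i j, g i j * (b i - b j) ^ 2 = 0 := fun i j =>
    (Finset.sum_eq_zero_iff_of_nonneg fun j _ => hnn i j).1
      ((Finset.sum_eq_zero_iff_of_nonneg fun i _ => Finset.sum_nonneg fun j _ => hnn i j).1
        (by linarith) i (Finset.mem_univ i)) j (Finset.mem_univ j)
  have h4 : ∀ j, b j ^ 2 * ∑ i, g i j = 0 := fun j =>
    (Finset.sum_eq_zero_iff_of_nonpos fun j _ => mul_nonpos_of_nonneg_of_nonpos (sq_nonneg _) (hrow j)).1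
      (by linarith) j (Finset.mem_univ j)
  obtain ⟨j₀, hj₀⟩ := hlt
  have hb0 : b j₀ = 0 := by
    rcases mul_eq_zero.1 (h4 j₀) with h | h
    · exact pow_eq_zero_iff two_ne_zero |>.1 h
    · exfalso
      have : ((∑ i, d i * G i j₀ : ℤ) : ℚ) * d j₀ = 0 := by
        push_cast
        rw [Finset.sum_mul, ← h]
        exact Finset.sum_congr rfl fun i _ => by simp only [g]; ring
      rcases mul_eq_zero.1 this with h' | h'
      · exact hj₀.ne (by exact_mod_cast h')
      · exact (hd' j₀).ne' h'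
  apply ha
  by_contra hne
  obtain ⟨i, hi, j, hj, hij⟩ := hcon (Finset.univ.filter fun i => b i = 0) ⟨j₀, by simp [hb0]⟩ fun e =>
    hne (funext fun i => by
      have := (Finset.mem_filter.1 (e.ge (Finset.mem_univ i))).2
      have h := hab i
      rw [this, zero_mul] at h
      exact_mod_cast h)
  simp only [Finset.mem_filter, Finset.mem_univ, true_and] at hi hj
  have h := h3 i j
  rw [hi, zero_sub, neg_sq] at h
  rcases mul_eq_zero.1 h with h | h
  · have : (0 : ℚ) < g i j := mul_pos (mul_pos (hd' i) (hd' j)) (by exact_mod_cast hij)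
    exact this.ne' h
  · exact hj (pow_eq_zero_iff two_ne_zero |>.1 h)

variable {X : Scheme.{u}} (k : Type u) [Field k] [X.Over (Spec (CommRingCat.of k))]
  [IsProper (X ↘ Spec (CommRingCat.of k))] [AlgebraicGeometry.IsIntegral X]
  (hdim : topologicalKrullDim X = 2) (hreg : ∀ x : X, IsRegularLocalRing (X.presheaf.stalk x))

include k hdim hreg

/-- Curves which do not meet pair to zero. -/
theorem pair_eq_zero_of_disjoint {I J : X.IdealSheafData} (hI : IsCurve I) (hJ : IsCurve J)
    (hd : Disjoint (I.support : Set X) J.support) :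
    pair k (ClSub.idealMod I) (ClSub.idealMod J) = 0 := by
  have hN : IsNoetherian X := Groth.Inter.isNoetherian k
  have hp : ∀ Z ∈ irreducibleComponents (X : Type u), topologicalKrullDim Z = 2 := fun Z hZ => by
    obtain rfl : Z = Set.univ := by simpa [irreducibleComponents_eq_singleton] using hZ
    rw [← hdim]
    exact IsHomeomorph.topologicalKrullDim_eq _ (Homeomorph.Set.univ X).isHomeomorph
  have hCM : ∀ x : X, LocCoh.IsCohenMacaulayLocalRing (X.presheaf.stalk x) := fun x => by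
    have := hreg x
    exact Groth.Calg4.isCohenMacaulayLocalRing_of_isRegularLocalRing _
  have he : ((I ⊔ J).support : Set X) = ∅ := by
    rw [Scheme.IdealSheafData.support_sup]; exact hd.inter_eq
  rw [← intNum_eq_pair k hdim.le, intNum_pair_eq_finrank k hp hdim.le hCM I J
    (fun x => hI.isEffCartier k hdim hreg x) (fun x => hJ.isEffCartier k hdim hreg x)
    (he ▸ Set.finite_empty)]
  have hz : IsZero (ClSub.quotMod (I ⊔ J)) := by
    obtain ⟨hc, hsup⟩ := support_quotMod k (I ⊔ J)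
    have := hc.1
    exact (QCohMod.isZero_iff_support_eq_empty _).2 (hsup.trans he)
  haveI : Subsingleton Γ(ClSub.quotMod (I ⊔ J), (⊤ : X.Opens)) := by
    refine ⟨fun s t => ?_⟩
    have e := fun r : Γ(ClSub.quotMod (I ⊔ J), (⊤ : X.Opens)) =>
      congr(($((IsZero.iff_id_eq_zero _).1 hz)).app ⊤ r)
    exact (e s).trans (e t).symm
  haveI : Subsingleton (Coh.HH X (ClSub.quotMod (I ⊔ J)) 0) :=
    (EulerDeg.h0Equiv k (ClSub.quotMod (I ⊔ J))).toEquiv.subsingleton
  rw [Module.finrank_zero_of_subsingleton]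
  rfl

/-- The divisor of a rational function pairs to zero with every invertible module. -/
theorem exists_divisor {f : X.functionField} (hf : f ≠ 0) :
    ∃ (S : Finset X) (e : X → ℤ),
      (∀ y ∈ S, topologicalKrullDim (closure ({y} : Set X)) = ((1 : ℕ) : WithBot ℕ∞)) ∧
      (∀ y, topologicalKrullDim (closure ({y} : Set X)) = ((1 : ℕ) : WithBot ℕ∞) → f ∈ Reg y → 0 ≤ e y) ∧
      (∀ y, topologicalKrullDim (closure ({y} : Set X)) = ((1 : ℕ) : WithBot ℕ∞) → f ∈ Reg y →
        f⁻¹ ∉ Reg y → 0 < e y) ∧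
      (∀ y, topologicalKrullDim (closure ({y} : Set X)) = ((1 : ℕ) : WithBot ℕ∞) → f ∈ Reg y →
        f⁻¹ ∈ Reg y → e y = 0) ∧
      (∀ y, topologicalKrullDim (closure ({y} : Set X)) = ((1 : ℕ) : WithBot ℕ∞) → y ∉ S → e y = 0) ∧
      ∀ L : X.Modules, PicF.IsInvertible L →
        ∑ y ∈ S, e y * delta k [L] (ClSub.quotMod (IntMult.ptIdeal y)) = 0 := by
  classical
  haveI : X.IsSeparated := ⟨Limits.terminal.comp_from (X ↘ Spec (CommRingCat.of k)) ▸ inferInstance⟩
  have hN : IsNoetherian X := Groth.Inter.isNoetherian k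
  have hfact : ∀ x : X, ∃ _ : IsDomain (X.presheaf.stalk x),
      UniqueFactorizationMonoid (X.presheaf.stalk x) := fun x => by
    haveI := hreg x
    obtain ⟨h₁, h₂⟩ := Agent.S2821.result (X.presheaf.stalk x)
    exact ⟨h₁, h₂⟩
  have hnorm : Pi1.IsNormalScheme X := fun x => by
    obtain ⟨_, _⟩ := hfact x
    exact ⟨‹_›, inferInstance⟩
  obtain ⟨W, hηW, a₀, ha₀⟩ := X.presheaf.germ_exist f
  obtain ⟨U, hU, hηU, hUW⟩ := exists_isAffineOpen_mem_and_subset (U := W) hηW
  have hEc := FlatmorThree.AffineCompl.isEffCartierIdeal_compl hfact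
    (fun V W hV hW => IsAffineOpen.inf hV hW) hU (U.isOpen.dense ⟨_, hηU⟩)
  obtain ⟨P, T, hP, hT⟩ := FlatmorThree.AmpleFam.exists_canonical hEc
  have hTU : gloc T = U := by
    rw [hT]
    ext x
    change x ∈ ((Scheme.IdealSheafData.vanishingIdeal U.compl).support : Set X)ᶜ ↔ x ∈ U
    rw [Scheme.IdealSheafData.coe_support_vanishingIdeal]
    change x ∈ (U : Set X)ᶜᶜ ↔ x ∈ U
    rw [compl_compl]
    rfl
  subst hTU
  haveI : Nonempty (gloc T) := ⟨⟨_, hηU⟩⟩
  set a : Γ(X, gloc T) := resX X hUW a₀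
  have ha : X.germToFunctionField (gloc T) a = f :=
    (X.presheaf.germ_res_apply (homOfLE hUW) _ hηU a₀).trans ha₀
  obtain ⟨N, b, hb⟩ := exists_extend hP T a
  choose aT ab hrel haT0 haTu hlT hlb using exists_frame_orders hP T a b hb
  have hM := isInvertible_tensorPow hP N
  have hgen : Gen _ (gloc T) (powSec (res P (le_top : gloc T ≤ ⊤) T) N) := (gen_gloc T le_rfl).pow N
  have hb0 : b ≠ 0 := fun h => by
    refine hf ?_
    have : a = 0 := hgen.smul_inj le_rfl (by
      rw [h, res_zero] at hb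
      rw [res_self, ← hb, zero_smul])
    rw [← ha, this, map_zero]
  have hT0 : powSec T N ≠ 0 := fun h => by
    have h1 : (1 : Γ(X, gloc T)) = 0 := hgen.smul_inj le_rfl (by
      rw [res_self, ← res_powSec, h, res_zero, smul_zero, smul_zero])
    exact one_ne_zero h1
  set DT := PicF2.zeroScheme _ (homOfSection (powSec T N))
  set Db := PicF2.zeroScheme _ (homOfSection b)
  have rT := regularSection_of_ne_zero hM (homOfSection_ne_zero hT0)
  have rb := regularSection_of_ne_zero hM (homOfSection_ne_zero hb0)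
  have hDT : BlowUp.IsEffCartierIdeal DT := isEffCartierIdeal_zeroScheme hM rT
  have hDb : BlowUp.IsEffCartierIdeal Db := isEffCartierIdeal_zeroScheme hM rb
  let e : X → ℤ := fun y =>
    ((Module.length (X.presheaf.stalk y) ((ClSub.quotMod Db).presheaf.stalk y)).toNat : ℤ) -
      (Module.length (X.presheaf.stalk y) ((ClSub.quotMod DT).presheaf.stalk y)).toNat
  have hfT := finite_dim_closure_eq (n := 1) DT.support.isClosed (dim_support_le_one k hdim hDT)
  have hfb := finite_dim_closure_eq (n := 1) Db.support.isClosed (dim_support_le_one k hdim hDb)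
  let S := hfT.toFinset ∪ hfb.toFinset
  have hSd : ∀ y ∈ S, topologicalKrullDim (closure ({y} : Set X)) = ((1 : ℕ) : WithBot ℕ∞) := fun y hy =>
    (Finset.mem_union.1 hy).elim (fun h => (hfT.mem_toFinset.1 h).2) fun h => (hfb.mem_toFinset.1 h).2
  have hK : ∀ y : X, topologicalKrullDim (closure ({y} : Set X)) = ((1 : ℕ) : WithBot ℕ∞) →
      ringKrullDim (X.presheaf.stalk y) = 1 := fun y hd => by
    have h2 := Variety2.Dim.ringKrullDim_stalk_add_height (X ↘ Spec (CommRingCat.of k)) y
    rw [← Variety2.Dim.dim_closure_singleton, hd, hdim] at h2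
    generalize ringKrullDim (X.presheaf.stalk y) = a at h2 ⊢
    cases a with
    | bot => simp at h2
    | coe a =>
      exact congrArg WithBot.some (eq_one_of_add (b := a) (a := 1) (by rw [add_comm]; exact WithBot.coe_inj.1 h2) rfl)
  have hord : ∀ y, topologicalKrullDim (closure ({y} : Set X)) = ((1 : ℕ) : WithBot ℕ∞) → ∀ c,
      algebraMap (X.presheaf.stalk y) X.functionField c = f →
      e y = ((Ring.ord (X.presheaf.stalk y) c).toNat : ℤ) ∧ Ring.ord (X.presheaf.stalk y) c ≠ ⊤ := by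
    intro y hd c hc
    haveI := RefRank.isDiscreteValuationRing_stalk hnorm (hK y hd)
    have hc0 : c ≠ 0 := fun h => hf (by rw [← hc, h, map_zero])
    have heq : ab y = c * aT y := by
      apply IsFractionRing.injective (X.presheaf.stalk y) X.functionField
      rw [map_mul, hrel y, ha, hc]
    refine ⟨?_, Ring.ord_ne_top (mem_nonZeroDivisors_of_ne_zero hc0)⟩
    simp only [e]
    rw [hlb, hlT, heq, Ring.ord_mul _ (mem_nonZeroDivisors_of_ne_zero (haT0 y)),
      ENat.toNat_add (Ring.ord_ne_top (mem_nonZeroDivisors_of_ne_zero hc0))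
        (Ring.ord_ne_top (mem_nonZeroDivisors_of_ne_zero (haT0 y)))]
    push_cast
    ring
  refine ⟨S, e, hSd, fun y hd ⟨c, hc⟩ => ?_, fun y hd ⟨c, hc⟩ hinv => ?_,
    fun y hd ⟨c, hc⟩ ⟨v, hv⟩ => ?_, fun y hd hy => ?_, fun L hL => ?_⟩
  · rw [(hord y hd c hc).1]; exact Int.natCast_nonneg _
  · obtain ⟨h1, h2⟩ := hord y hd c hc
    rw [h1]
    refine Int.natCast_pos.2 (Nat.pos_of_ne_zero fun h => ?_)
    rcases ENat.toNat_eq_zero.1 h with h | h
    · rw [Ring.ord, Module.length_eq_zero_iff, Submodule.Quotient.subsingleton_iff,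
        Ideal.span_singleton_eq_top] at h
      obtain ⟨v, hv⟩ := h.exists_right_inv
      refine hinv ⟨v, eq_inv_of_mul_eq_one_right ?_⟩
      rw [← hc, ← map_mul, hv, map_one]
    · exact h2 h
  · obtain ⟨h1, -⟩ := hord y hd c hc
    rw [h1, Ring.ord_of_isUnit (IsUnit.of_mul_eq_one v ?_)]
    · rfl
    · apply IsFractionRing.injective (X.presheaf.stalk y) X.functionField
      rw [map_mul, map_one, hc, hv, mul_inv_cancel₀ hf]
  · have hz : ∀ D : X.IdealSheafData, y ∉ D.support →
        Module.length (X.presheaf.stalk y) ((ClSub.quotMod D).presheaf.stalk y) = 0 := fun D h => by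
      rw [Module.length_eq_zero_iff,
        ← ((quotStalk D y).quotKerEquivOfSurjective (quotStalk_surjective D y)).toEquiv.subsingleton_congr,
        Submodule.Quotient.subsingleton_iff]
      by_contra hne
      exact h ((stalkIdeal_ne_top_iff D y).1 hne)
    simp only [S, Finset.mem_union, Set.Finite.mem_toFinset, not_or] at hy
    simp only [e]
    rw [hz Db fun h => hy.2 ⟨h, hd⟩, hz DT fun h => hy.1 ⟨h, hd⟩]
    simp
  · have eT := pair_eq_sum k hdim hDT S hSd
      (fun y hy hd => Finset.mem_union_left _ (hfT.mem_toFinset.2 ⟨hy, hd⟩)) hL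
    have eb := pair_eq_sum k hdim hDb S hSd
      (fun y hy hd => Finset.mem_union_right _ (hfb.mem_toFinset.2 ⟨hy, hd⟩)) hL
    have hpp : pair k (ClSub.idealMod Db) L = pair k (ClSub.idealMod DT) L := by
      rw [pair_inverse k hdim.le hM (isInverseOf_zeroScheme hM rT) hL,
        pair_inverse k hdim.le hM (isInverseOf_zeroScheme hM rb) hL]
    rw [eT, eb] at hpp
    simp only [e, sub_mul, Finset.sum_sub_distrib, hpp, sub_self]

end Groth.AffineDiv
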