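import Groth.Agent.AffineDiv.Pairing
import Groth.Agent.Inter.SectionDivisor
import Groth.Agent.Inter.Push
import Groth.Agent.RefRank.EffCartierDecomp
import Groth.Agent.ModelsGraphs.QuotMulSeq
import Groth.Agent.Curves1.RR.Numerics

/-!
# Effective divisors with vanishing first cohomology on a surface
-/

universe u

open CategoryTheory CategoryTheory.Limits AlgebraicGeometry TopologicalSpace

namespace Groth.AffineDiv

open Groth.Inter Groth.SurfNum Groth.PicAux

section Monoid

variable {X : Scheme.{u}} {ι : Type} [Fintype ι] (C : ι → X.IdealSheafData)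

theorem isEffCartier_prodPow (hC : ∀ i, BlowUp.IsEffCartierIdeal (C i)) (a : ι → ℕ) : BlowUp.IsEffCartierIdeal (∏ i, C i ^ a i) :=
  (Finset.prod_induction (fun i => C i ^ a i) BlowUp.IsEffCartierIdeal
    (fun _ _ => Divisors.isEffCartierIdeal_mul) Divisors.isEffCartierIdeal_top
    fun i _ => Divisors.isEffCartierIdeal_pow (hC i) _)

theorem prodPow_sub_mul [DecidableEq ι] (a : ι → ℕ) {i : ι} (hi : 0 < a i) :
    (∏ j, C j ^ a j) = (∏ j, C j ^ (a - Pi.single i 1 : ι → ℕ) j) * C i := by
  conv_rhs => arg 2; rw [← pow_one (C i)]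
  rw [show (∏ j, C j ^ a j) = ∏ j, C j ^ ((a - Pi.single i 1 : ι → ℕ) j + (Pi.single i 1 : ι → ℕ) j) from
    Finset.prod_congr rfl fun j _ => by
      congr 1
      rcases eq_or_ne j i with rfl | h
      · simp; omega
      · simp [h]]
  simp only [pow_add, Finset.prod_mul_distrib]
  congr 1
  rw [Finset.prod_eq_single i (fun j _ hj => by simp [hj]) (fun h => absurd (Finset.mem_univ i) h)]
  simp

end Monoid

variable {X : Scheme.{u}} (k : Type u) [Field k] [X.Over (Spec (CommRingCat.of k))]
  [IsProper (X ↘ Spec (CommRingCat.of k))]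

attribute [local instance] EulerDeg.secModule

/-- A line bundle of degree at least `-1` on a curve without first cohomology has none. -/
theorem subsingleton_h1_curve [IsAlgClosed k] {C : X.IdealSheafData} [AlgebraicGeometry.IsIntegral C.subscheme]
    (hd : topologicalKrullDim (C.support : Set X) ≤ 1) (h1 : Subsingleton (Coh.HH X (ClSub.quotMod C) 1))
    {M : X.Modules} (hM : PicF.IsInvertible M)
    (hdeg : -1 ≤ Curv2.euler k X (CohB1.tensorMod (ClSub.quotMod C) M) - Curv2.euler k X (ClSub.quotMod C)) :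
    Subsingleton (Coh.HH X (CohB1.tensorMod (ClSub.quotMod C) M) 1) := by
  let Z := C.subscheme
  let ι := C.subschemeι
  letI : Z.Over (Spec (CommRingCat.of k)) := ⟨ι ≫ (X ↘ Spec (CommRingCat.of k))⟩
  haveI : IsProper (Z ↘ Spec (CommRingCat.of k)) :=
    inferInstanceAs (IsProper (ι ≫ (X ↘ Spec (CommRingCat.of k))))
  have hdimZ : topologicalKrullDim Z ≤ 1 := by
    have hh := ι.isClosedEmbedding.toIsEmbedding.toHomeomorph
    rw [IsHomeomorph.topologicalKrullDim_eq _ hh.isHomeomorph, C.range_subschemeι]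
    exact hd
  let L := (Scheme.Modules.pullback ι).obj M
  have hL : PicF.IsInvertible L := isInvertible_pullback ι hM
  let e : CohB1.tensorMod (ClSub.quotMod C) M ≅ (Coh.push ι).obj L :=
    (tensor_comm _ M).some ≪≫ (tensor_push ι hM (Coh.structureModule Z)).some ≪≫
      (Coh.push ι).mapIso ((tensor_comm _ _).some ≪≫ (tensor_one L).some)
  have hg : Curv2.genus k Z = 0 := by
    obtain ⟨f⟩ := CohC3.nonempty_linearEquiv_push_closed ι (X ↘ Spec (CommRingCat.of k)) 1
      (Coh.structureModule Z)
    haveI : Subsingleton (Coh.HH Z (Coh.structureModule Z) 1) :=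
      @Equiv.subsingleton _ _ f.symm.toEquiv h1
    exact Module.finrank_zero_of_subsingleton
  have h0 : Module.finrank k (Coh.HH Z (Coh.structureModule Z) 0) = 1 := by
    refine le_antisymm (finrank_h0_structure_le k) ?_
    haveI : Nonempty (⊤ : Z.Opens) := ⟨⟨genericPoint Z, trivial⟩⟩
    have : Nontrivial Γ(Coh.structureModule Z, (⊤ : Z.Opens)) := inferInstanceAs (Nontrivial Γ(Z, ⊤))
    have : Nontrivial (Coh.HH Z (Coh.structureModule Z) 0) :=
      (EulerDeg.h0Equiv k (Coh.structureModule Z)).toEquiv.nontrivial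
    have : IsNoetherian Z := Groth.Inter.isNoetherian k
    have : Module.Finite k (Coh.HH Z (Coh.structureModule Z) 0) := (finCoh k QCohMod.isCoh_unit).finite 0
    exact Module.finrank_pos
  rw [EulerDeg.euler_congr k e, euler_push k ι rfl, show ClSub.quotMod C = (Coh.push ι).obj (Coh.structureModule Z) from rfl,
    euler_push k ι rfl] at hdeg
  have hL1 : Subsingleton (Coh.HH Z L 1) := by
    refine Curves1.RR.subsingleton_h1_of_deg_ge k hdimZ h0 hL ?_
    rw [hg, Curv2.deg]
    push_cast
    linarith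
  obtain ⟨f⟩ := CohC3.nonempty_linearEquiv_push_closed ι (X ↘ Spec (CommRingCat.of k)) 1 L
  haveI : Subsingleton (Coh.HH X ((Coh.push ι).obj L) 1) := @Equiv.subsingleton _ _ f.toEquiv hL1
  exact (EulerDeg.hEquiv k e 1).toEquiv.subsingleton

variable [AlgebraicGeometry.IsIntegral X] (hdim : topologicalKrullDim X = 2)

include k hdim

/-- The sequence of a product of divisors splits the vanishing. -/
theorem subsingleton_h1_mul {I J : X.IdealSheafData} (hI : BlowUp.IsEffCartierIdeal I)
    (hJ : BlowUp.IsEffCartierIdeal J) (h₁ : Subsingleton (Coh.HH X (ClSub.quotMod I) 1))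
    (h₂ : Subsingleton (Coh.HH X (CohB1.tensorMod (ClSub.quotMod J) (ClSub.idealMod I)) 1)) :
    Subsingleton (Coh.HH X (ClSub.quotMod (I * J)) 1) := by
  obtain ⟨S, hS, ⟨e₁⟩, ⟨e₂⟩, ⟨e₃⟩⟩ := ModelsGraphs.QuotMulSeq.exists_shortExact hI hJ
  haveI := h₁
  haveI := h₂
  haveI : Subsingleton (Coh.HH X S.X₃ 1) := (EulerDeg.hEquiv k e₃ 1).toEquiv.subsingleton
  haveI : Subsingleton (Coh.HH X S.X₁ 1) := (EulerDeg.hEquiv k e₁ 1).toEquiv.subsingleton
  haveI : Subsingleton (Coh.HH X S.X₂ 1) := by
    refine subsingleton_of_forall_eq 0 fun y => ?_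
    obtain ⟨z, rfl⟩ := (EulerDeg.exact_mid k hS 1 y).1 (Subsingleton.elim _ _)
    rw [Subsingleton.elim z 0, map_zero]
  exact (EulerDeg.hEquiv k e₂ 1).symm.toEquiv.subsingleton

/-- The Euler characteristic of a product of divisors. -/
theorem euler_quot_mul {I J : X.IdealSheafData} (hI : BlowUp.IsEffCartierIdeal I)
    (hJ : BlowUp.IsEffCartierIdeal J) :
    Curv2.euler k X (ClSub.quotMod (I * J)) = Curv2.euler k X (ClSub.quotMod I) +
      Curv2.euler k X (ClSub.quotMod J) - pair k (ClSub.idealMod I) (ClSub.idealMod J) := by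
  have hN : IsNoetherian X := Groth.Inter.isNoetherian k
  obtain ⟨S, hS, ⟨e₁⟩, ⟨e₂⟩, ⟨e₃⟩⟩ := ModelsGraphs.QuotMulSeq.exists_shortExact hI hJ
  have c₁ : Coh.IsCoh S.X₁ := QCohMod.isCoh_of_iso e₁.symm (QCohMod.isCoh_of_iso (tensor_comm _ _).some
    (isCoh_twist (isInvertible_idealMod hI) (support_quotMod k J).1))
  have c₃ : Coh.IsCoh S.X₃ := QCohMod.isCoh_of_iso e₃.symm (support_quotMod k I).1
  have h := euler_add k hS c₁ c₃
  rw [EulerDeg.euler_congr k e₁, EulerDeg.euler_congr k e₂, EulerDeg.euler_congr k e₃] at h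
  have h' := deg_eq k hJ (isInvertible_idealMod hI)
  rw [pair_comm k] at h'
  linarith

omit hdim in
theorem euler_quot_top : Curv2.euler k X (ClSub.quotMod (⊤ : X.IdealSheafData)) = 0 := by
  have hN : IsNoetherian X := Groth.Inter.isNoetherian k
  obtain ⟨hc, hsup⟩ := support_quotMod k (⊤ : X.IdealSheafData)
  have := hc.1
  exact euler_of_isZero k ((QCohMod.isZero_iff_support_eq_empty _).2 (hsup.trans (by simp)))

omit hdim in
theorem subsingleton_h1_top : Subsingleton (Coh.HH X (ClSub.quotMod (⊤ : X.IdealSheafData)) 1) := by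
  have hN : IsNoetherian X := Groth.Inter.isNoetherian k
  obtain ⟨hc, hsup⟩ := support_quotMod k (⊤ : X.IdealSheafData)
  have := hc.1
  have hz := (QCohMod.isZero_iff_support_eq_empty _).2 (hsup.trans (by simp))
  refine subsingleton_of_forall_eq 0 fun z => ?_
  have e : EulerDeg.hMap k (𝟙 (ClSub.quotMod (⊤ : X.IdealSheafData))) 1 z = z := by
    rw [EulerDeg.hMap_id]; rfl
  rw [← e, (IsZero.iff_id_eq_zero _).1 hz, EulerDeg.hMap_apply, EulerDeg.abMap_zero, Sheaf.H.map_apply,
    Abelian.Ext.mk₀_zero, Abelian.Ext.comp_zero]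

section Curves

variable {ι : Type} [Fintype ι] [DecidableEq ι] (C : ι → X.IdealSheafData)
  (hC : ∀ i, BlowUp.IsEffCartierIdeal (C i))

include hC

/-- Pairing with a combination of curves. -/
theorem pair_prodPow (a : ι → ℕ) {L : X.Modules} (hL : PicF.IsInvertible L) :
    pair k (ClSub.idealMod (∏ i, C i ^ a i)) L = ∑ i, (a i : ℤ) * pair k (ClSub.idealMod (C i)) L := by
  induction hn : ∑ i, a i generalizing a with
  | zero =>
    have ha : a = 0 := funext fun i => by
      simpa using (Finset.sum_eq_zero_iff.1 hn) i (Finset.mem_univ i)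
    subst ha
    have := pair_idealMod_pow k hdim.le (Divisors.isEffCartierIdeal_top (X := X)) hL 0
    rw [pow_zero, Nat.cast_zero, zero_mul] at this
    simp only [Pi.zero_apply, pow_zero, Finset.prod_const_one, Nat.cast_zero, zero_mul,
      Finset.sum_const_zero]
    exact this
  | succ n ih =>
    obtain ⟨i, -, hi⟩ : ∃ i ∈ Finset.univ, 0 < a i := by
      by_contra h
      push Not at h
      rw [Finset.sum_eq_zero fun i hi => Nat.le_zero.1 (h i hi)] at hn
      omega
    have hs : ∑ j, (a - Pi.single i 1 : ι → ℕ) j = n := by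
      have : ∑ j, a j = ∑ j, ((a - Pi.single i 1 : ι → ℕ) j + (Pi.single i 1 : ι → ℕ) j) :=
        Finset.sum_congr rfl fun j _ => by
          rcases eq_or_ne j i with rfl | h
          · simp; omega
          · simp [h]
      rw [Finset.sum_add_distrib, Finset.sum_pi_single' i 1 Finset.univ, if_pos (Finset.mem_univ _)] at this
      omega
    rw [prodPow_sub_mul C a hi, pair_idealMod_mul k hdim.le (isEffCartier_prodPow C hC _) (hC i) hL,
      ih _ hs]
    have : ∀ j, (a j : ℤ) = ((a - Pi.single i 1 : ι → ℕ) j : ℤ) + if j = i then 1 else 0 := fun j => by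
      rcases eq_or_ne j i with rfl | h
      · simp only [if_true, Pi.sub_apply, Pi.single_eq_same]; omega
      · simp [h]
    simp only [this, add_mul, ite_mul, one_mul, zero_mul, Finset.sum_add_distrib, Finset.sum_ite_eq',
      Finset.mem_univ, if_true]

/-- The adjunction identity for combinations of curves. -/
theorem euler_prodPow (a : ι → ℕ) :
    2 * Curv2.euler k X (ClSub.quotMod (∏ i, C i ^ a i)) +
        pair k (ClSub.idealMod (∏ i, C i ^ a i)) (ClSub.idealMod (∏ i, C i ^ a i)) =
      ∑ i, (a i : ℤ) * (2 * Curv2.euler k X (ClSub.quotMod (C i)) +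
        pair k (ClSub.idealMod (C i)) (ClSub.idealMod (C i))) := by
  induction hn : ∑ i, a i generalizing a with
  | zero =>
    have ha : a = 0 := funext fun i => by
      simpa using (Finset.sum_eq_zero_iff.1 hn) i (Finset.mem_univ i)
    subst ha
    have h := pair_prodPow k hdim C hC 0 (isInvertible_idealMod (isEffCartier_prodPow C hC 0))
    simp only [Pi.zero_apply, pow_zero, Finset.prod_const_one, Nat.cast_zero, zero_mul,
      Finset.sum_const_zero] at h ⊢
    rw [h, Scheme.IdealSheafData.one_eq_top, euler_quot_top k]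
    ring
  | succ n ih =>
    obtain ⟨i, -, hi⟩ : ∃ i ∈ Finset.univ, 0 < a i := by
      by_contra h
      push Not at h
      rw [Finset.sum_eq_zero fun i hi => Nat.le_zero.1 (h i hi)] at hn
      omega
    set b : ι → ℕ := a - Pi.single i 1
    have hab : ∀ j, (a j : ℤ) = (b j : ℤ) + if j = i then 1 else 0 := fun j => by
      rcases eq_or_ne j i with rfl | h
      · simp only [b, if_true, Pi.sub_apply, Pi.single_eq_same]; omega
      · simp [b, h]
    have hs : ∑ j, b j = n := by
      have : ((∑ j, a j : ℕ) : ℤ) = (∑ j, b j : ℕ) + 1 := by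
        push_cast
        simp only [hab, Finset.sum_add_distrib, Finset.sum_ite_eq', Finset.mem_univ, if_true]
      omega
    have hD := isEffCartier_prodPow C hC b
    have hiD := isInvertible_idealMod hD
    have hiC := isInvertible_idealMod (hC i)
    have hiT := isInvertible_idealMod (Divisors.isEffCartierIdeal_mul hD (hC i))
    rw [prodPow_sub_mul C a hi, euler_quot_mul k hdim hD (hC i), pair_idealMod_mul k hdim.le hD (hC i) hiT,
      pair_comm k (ClSub.idealMod (∏ j, C j ^ b j)) (ClSub.idealMod ((∏ j, C j ^ b j) * C i)),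
      pair_comm k (ClSub.idealMod (C i)) (ClSub.idealMod ((∏ j, C j ^ b j) * C i)),
      pair_idealMod_mul k hdim.le hD (hC i) hiD, pair_idealMod_mul k hdim.le hD (hC i) hiC,
      pair_comm k (ClSub.idealMod (C i)) (ClSub.idealMod (∏ j, C j ^ b j))]
    simp only [hab, add_mul, ite_mul, one_mul, zero_mul, Finset.sum_add_distrib, Finset.sum_ite_eq',
      Finset.mem_univ, if_true]
    linarith [ih b hs]

/-- If every subdivisor has a curve of small pairing with the rest, the first cohomology vanishes. -/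
theorem subsingleton_h1_prodPow [IsAlgClosed k] (hint : ∀ i, AlgebraicGeometry.IsIntegral (C i).subscheme)
    (hd : ∀ i, topologicalKrullDim ((C i).support : Set X) ≤ 1)
    (h1 : ∀ i, Subsingleton (Coh.HH X (ClSub.quotMod (C i)) 1)) (a : ι → ℕ)
    (h : ∀ b : ι → ℕ, b ≤ a → b ≠ 0 → ∃ i, 0 < b i ∧
      ∑ j, (b j : ℤ) * pair k (ClSub.idealMod (C j)) (ClSub.idealMod (C i)) -
        pair k (ClSub.idealMod (C i)) (ClSub.idealMod (C i)) ≤ 1) :
    Subsingleton (Coh.HH X (ClSub.quotMod (∏ i, C i ^ a i)) 1) := by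
  induction hn : ∑ i, a i generalizing a with
  | zero =>
    have ha : a = 0 := funext fun i => by
      simpa using (Finset.sum_eq_zero_iff.1 hn) i (Finset.mem_univ i)
    subst ha
    simp only [Pi.zero_apply, pow_zero, Finset.prod_const_one]
    rw [Scheme.IdealSheafData.one_eq_top]
    exact subsingleton_h1_top k
  | succ n ih =>
    obtain ⟨i, hi, hle⟩ := h a le_rfl fun e => by simp [e] at hn
    set b : ι → ℕ := a - Pi.single i 1
    have hab : ∀ j, (a j : ℤ) = (b j : ℤ) + if j = i then 1 else 0 := fun j => by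
      rcases eq_or_ne j i with rfl | h
      · simp only [b, if_true, Pi.sub_apply, Pi.single_eq_same]; omega
      · simp [b, h]
    have hs : ∑ j, b j = n := by
      have : ((∑ j, a j : ℕ) : ℤ) = (∑ j, b j : ℕ) + 1 := by
        push_cast
        simp only [hab, Finset.sum_add_distrib, Finset.sum_ite_eq', Finset.mem_univ, if_true]
      omega
    have hba : b ≤ a := fun j => Nat.sub_le _ _
    have hD := isEffCartier_prodPow C hC b
    rw [prodPow_sub_mul C a hi]
    refine subsingleton_h1_mul k hdim hD (hC i) (ih b (fun c hc => h c (hc.trans hba)) hs) ?_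
    haveI := hint i
    refine subsingleton_h1_curve k (hd i) (h1 i) (isInvertible_idealMod hD) ?_
    rw [deg_eq k (hC i) (isInvertible_idealMod hD), pair_comm k,
      pair_prodPow k hdim C hC b (isInvertible_idealMod (hC i))]
    simp only [hab, add_mul, ite_mul, one_mul, zero_mul, Finset.sum_add_distrib, Finset.sum_ite_eq',
      Finset.mem_univ, if_true] at hle
    linarith

end Curves

end Groth.AffineDiv
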