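import Groth.Agent.AffineDiv.Rational

/-!
# Rationality of effective divisors on a regular surface
-/

universe u

open CategoryTheory CategoryTheory.Limits AlgebraicGeometry TopologicalSpace

namespace Groth.AffineDiv

open Groth.Inter Groth.SurfNum Groth.PicAux

variable {X : Scheme.{u}} (k : Type u) [Field k] [X.Over (Spec (CommRingCat.of k))]
  [IsProper (X ↘ Spec (CommRingCat.of k))]

theorem h0_quot_pos {D : X.IdealSheafData} (hne : (D.support : Set X).Nonempty) :
    0 < Module.finrank k (Coh.HH X (ClSub.quotMod D) 0) := by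
  have hN : IsNoetherian X := Groth.Inter.isNoetherian k
  have : Nonempty D.subscheme := by
    rw [← Scheme.IdealSheafData.range_subschemeι] at hne
    obtain ⟨_, z, -⟩ := hne
    exact ⟨z⟩
  have : Nonempty (⊤ : D.subscheme.Opens) := ⟨⟨Classical.arbitrary _, trivial⟩⟩
  have : Nontrivial Γ(ClSub.quotMod D, (⊤ : X.Opens)) := inferInstanceAs (Nontrivial Γ(D.subscheme, ⊤))
  have : Nontrivial (Coh.HH X (ClSub.quotMod D) 0) :=
    (EulerDeg.h0Equiv k (ClSub.quotMod D)).toEquiv.nontrivial
  have : Module.Finite k (Coh.HH X (ClSub.quotMod D) 0) := (finCoh k (support_quotMod k D).1).finite 0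
  exact Module.finrank_pos

variable [AlgebraicGeometry.IsIntegral X] (hdim : topologicalKrullDim X = 2)

include k hdim

theorem euler_quot_eq {D : X.IdealSheafData} (hD : BlowUp.IsEffCartierIdeal D) :
    Curv2.euler k X (ClSub.quotMod D) = (Module.finrank k (Coh.HH X (ClSub.quotMod D) 0) : ℤ) -
      Module.finrank k (Coh.HH X (ClSub.quotMod D) 1) := by
  have hN : IsNoetherian X := Groth.Inter.isNoetherian k
  obtain ⟨hc, hsup⟩ := support_quotMod k D
  haveI : Subsingleton (Coh.HH X (ClSub.quotMod D) 2) :=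
    Variety2.Reg.subsingleton_HH_of_support_one _ D.support.isClosed
      (by simpa using dim_support_le_one k hdim hD) hsup.le le_rfl
  rw [euler_eq_three k hdim.le, Module.finrank_zero_of_subsingleton (R := k) (M := Coh.HH X (ClSub.quotMod D) 2)]
  simp

/-- Vanishing of `H¹` makes the Euler characteristic positive. -/
theorem one_le_euler_quot {D : X.IdealSheafData} (hD : BlowUp.IsEffCartierIdeal D) (hne : D ≠ ⊤)
    (h : Subsingleton (Coh.HH X (ClSub.quotMod D) 1)) : 1 ≤ Curv2.euler k X (ClSub.quotMod D) := by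
  have hpos := h0_quot_pos k (D := D) (Set.nonempty_iff_ne_empty.2 fun h =>
    hne ((Scheme.IdealSheafData.support_eq_bot_iff D).1 (SetLike.coe_injective h)))
  rw [euler_quot_eq k hdim hD, Module.finrank_zero_of_subsingleton (R := k) (M := Coh.HH X (ClSub.quotMod D) 1)]
  omega

/-- A curve with positive Euler characteristic has no first cohomology. -/
theorem subsingleton_h1_of_one_le_euler [IsAlgClosed k] {C : X.IdealSheafData}
    [AlgebraicGeometry.IsIntegral C.subscheme] (hC : BlowUp.IsEffCartierIdeal C)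
    (h : 1 ≤ Curv2.euler k X (ClSub.quotMod C)) : Subsingleton (Coh.HH X (ClSub.quotMod C) 1) := by
  have hN : IsNoetherian X := Groth.Inter.isNoetherian k
  have hle : Module.finrank k (Coh.HH X (ClSub.quotMod C) 0) ≤ 1 := by
    letI : C.subscheme.Over (Spec (CommRingCat.of k)) := ⟨C.subschemeι ≫ (X ↘ Spec (CommRingCat.of k))⟩
    haveI : IsProper (C.subscheme ↘ Spec (CommRingCat.of k)) :=
      inferInstanceAs (IsProper (C.subschemeι ≫ (X ↘ Spec (CommRingCat.of k))))
    obtain ⟨f⟩ := CohC3.nonempty_linearEquiv_push_closed C.subschemeι (X ↘ Spec (CommRingCat.of k)) 0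
      (Coh.structureModule C.subscheme)
    exact (le_of_eq f.finrank_eq).trans (finrank_h0_structure_le k)
  rw [euler_quot_eq k hdim hC] at h
  haveI : Module.Finite k (Coh.HH X (ClSub.quotMod C) 1) := (finCoh k (support_quotMod k C).1).finite 1
  exact (Module.finrank_zero_iff (R := k)).1 (by omega)

variable (hreg : ∀ x : X, IsRegularLocalRing (X.presheaf.stalk x))

include hreg

/-- A divisor all of whose subdivisors have positive Euler characteristic is rational. -/
theorem subsingleton_h1_of_euler [IsAlgClosed k] {D : X.IdealSheafData} (hD : BlowUp.IsEffCartierIdeal D)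
    (h : ∀ D' J : X.IdealSheafData, BlowUp.IsEffCartierIdeal D' → BlowUp.IsEffCartierIdeal J → D' ≠ ⊤ →
      D = D' * J → 1 ≤ Curv2.euler k X (ClSub.quotMod D')) :
    Subsingleton (Coh.HH X (ClSub.quotMod D) 1) := by
  classical
  have hN : IsNoetherian X := Groth.Inter.isNoetherian k
  have hfin := finite_dim_closure_eq (n := 1) D.support.isClosed (dim_support_le_one k hdim hD)
  let ξ : Fin hfin.toFinset.card → X := fun i => (hfin.toFinset.equivFin.symm i).1
  have hξ : ∀ i, ξ i ∈ D.support ∧ topologicalKrullDim (closure ({ξ i} : Set X)) = ((1 : ℕ) : WithBot ℕ∞) :=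
    fun i => hfin.mem_toFinset.1 (hfin.toFinset.equivFin.symm i).2
  let C : Fin hfin.toFinset.card → X.IdealSheafData := fun i => IntMult.ptIdeal (ξ i)
  have hc : ∀ i, IsCurve (C i) := fun i =>
    ⟨CohTwo.isIntegral_closure_subscheme rfl, by rw [support_ptIdeal]; exact (hξ i).2.trans (by simp)⟩
  have hCe : ∀ i, BlowUp.IsEffCartierIdeal (C i) := fun i => (hc i).isEffCartier k hdim hreg
  have hsub : (D.support : Set X) ⊆ ⋃ i, ((C i).support : Set X) := fun z hz => by
    obtain ⟨y, hy, hyz, hmax⟩ := Groth.DivisorLength.exists_maximal_generization D.support.isClosed hz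
    have hyd : topologicalKrullDim (closure ({y} : Set X)) = ((1 : ℕ) : WithBot ℕ∞) := by
      have h1 := Groth.Divisors.dim_stalk_eq_one_of_maximal_support hD hy hmax
      have h2 := Variety2.Dim.ringKrullDim_stalk_add_height (X ↘ Spec (CommRingCat.of k)) y
      rw [h1, hdim] at h2
      rw [Variety2.Dim.dim_closure_singleton]
      exact congrArg WithBot.some (eq_one_of_add (a := 1) (WithBot.coe_inj.1 h2) rfl)
    refine Set.mem_iUnion.2 ⟨hfin.toFinset.equivFin ⟨y, hfin.mem_toFinset.2 ⟨hy, hyd⟩⟩, ?_⟩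
    simp only [C, ξ, Equiv.symm_apply_apply, support_ptIdeal]
    exact hyz.mem_closure
  have hne : ∀ i, C i ≠ ⊤ := fun i e => by
    have : ξ i ∈ (C i).support := by
      change ξ i ∈ ((C i).support : Set X)
      rw [support_ptIdeal]; exact subset_closure rfl
    rw [e, Scheme.IdealSheafData.support_top] at this
    exact this
  have hχ : ∀ i, 1 ≤ Curv2.euler k X (ClSub.quotMod (C i)) := fun i => by
    haveI := (hc i).1
    obtain ⟨L, hL⟩ := Groth.BlowUpBasics.exists_eq_mul_of_le (hCe i)
      (RefRank.EffCartierLocal.le_of_isReduced_subscheme (D := D) (E := C i) (by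
        rw [support_ptIdeal]
        exact D.support.isClosed.closure_subset_iff.2 (Set.singleton_subset_iff.2 (hξ i).1)))
    exact h (C i) L (hCe i) (Divisors.isEffCartierIdeal_factors (hL ▸ hD)).1 (hne i) (hL.trans (mul_comm _ _))
  have h1 : ∀ i, Subsingleton (Coh.HH X (ClSub.quotMod (C i)) 1) := fun i =>
    haveI := (hc i).1
    subsingleton_h1_of_one_le_euler k hdim (hCe i) (hχ i)
  have hχ1 : ∀ i, Curv2.euler k X (ClSub.quotMod (C i)) = 1 := fun i => by
    refine le_antisymm ?_ (hχ i)
    haveI := (hc i).1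
    letI : (C i).subscheme.Over (Spec (CommRingCat.of k)) := ⟨(C i).subschemeι ≫ (X ↘ Spec (CommRingCat.of k))⟩
    haveI : IsProper ((C i).subscheme ↘ Spec (CommRingCat.of k)) :=
      inferInstanceAs (IsProper ((C i).subschemeι ≫ (X ↘ Spec (CommRingCat.of k))))
    obtain ⟨f⟩ := CohC3.nonempty_linearEquiv_push_closed (C i).subschemeι (X ↘ Spec (CommRingCat.of k)) 0
      (Coh.structureModule (C i).subscheme)
    have := (le_of_eq f.finrank_eq).trans (finrank_h0_structure_le k)
    rw [euler_quot_eq k hdim (hCe i)]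
    have h' : Module.finrank k (Coh.HH X (ClSub.quotMod (C i)) 0) ≤ 1 := this
    omega
  obtain ⟨a, ha⟩ := RefRank.EffCartierLocal.exists_eq_prod D hD C hCe (fun i => (hc i).1) hsub
  rw [ha]
  refine subsingleton_h1_prodPow k hdim C hCe (fun i => (hc i).1) (fun i => (hc i).2.le) h1 a fun b hb hb0 => ?_
  by_contra hcon
  push Not at hcon
  have hD' := isEffCartier_prodPow C hCe b
  obtain ⟨i₀, hi₀⟩ := Function.ne_iff.1 hb0
  have hne' : (∏ i, C i ^ b i) ≠ ⊤ := fun e => by
    rw [prodPow_sub_mul C b (Nat.pos_of_ne_zero hi₀)] at e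
    have hs : ξ i₀ ∈ ((∏ j, C j ^ (b - Pi.single i₀ 1 : _ → ℕ) j) * C i₀).support := by
      rw [Scheme.IdealSheafData.support_mul]
      refine Or.inr ?_
      change ξ i₀ ∈ ((C i₀).support : Set X)
      rw [support_ptIdeal]; exact subset_closure rfl
    rw [e, Scheme.IdealSheafData.support_top] at hs
    exact hs
  have hdiv : D = (∏ i, C i ^ b i) * ∏ i, C i ^ (a - b) i := by
    refine ha.trans ?_
    rw [← Finset.prod_mul_distrib]
    exact Finset.prod_congr rfl fun i _ => by rw [← pow_add, Pi.sub_apply, Nat.add_sub_cancel' (hb i)]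
  have hχb := h _ _ hD' (isEffCartier_prodPow C hCe _) hne' hdiv
  have hid := euler_prodPow k hdim C hCe b
  have hpp := pair_prodPow k hdim C hCe b (isInvertible_idealMod hD')
  rw [hpp] at hid
  have hsum : ∑ i, (b i : ℤ) * (2 * Curv2.euler k X (ClSub.quotMod (C i)) +
      pair k (ClSub.idealMod (C i)) (ClSub.idealMod (C i))) ≤
      ∑ i, (b i : ℤ) * pair k (ClSub.idealMod (C i)) (ClSub.idealMod (∏ i, C i ^ b i)) := by
    refine Finset.sum_le_sum fun i _ => ?_
    rcases Nat.eq_zero_or_pos (b i) with h0 | h0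
    · simp [h0]
    · refine mul_le_mul_of_nonneg_left ?_ (Int.natCast_nonneg _)
      have h2 := hcon i h0
      rw [hχ1, pair_comm k _ (ClSub.idealMod (∏ i, C i ^ b i)), pair_prodPow k hdim C hCe b (isInvertible_idealMod (hCe i))]
      omega
  linarith

end Groth.AffineDiv
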